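import Cfsg.Agent.H871.Par8
import Cfsg.Agent.H905.JDPlane
import Cfsg.Agent.FastGrp
import Cfsg.Agent.Prune
set_option linter.all false

section
prune_inst 0x7f00000000000000000000000000000000000000000000000000000000000000000000000000000000000000000000000000000000000000000000000000000000000000000000000000000000000000003fffffffffffffffffffffffffffbeffbdffffffff

-- part: H871/Par9
section
set_option linter.all false
open scoped Cfsg.Agent.FastGrp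

/-!
# `2^4:5` in `PSL_3(4)`: `10 ≤ n` for symplectic representations in odd characteristic
-/

set_option autoImplicit false

universe u v w

namespace Cfsg.Agent.H871.Par

open Matrix

variable {F : Type u} [Field F] {n : ℕ} {T : Type v} [Group T]

/-- **`2^4:A5`**: `f : K × K → T`, `|K| = 4`, additive to multiplicative, `SL_2(K)` acting. -/
theorem PA.sixteen (h : PA F n T) (h2 : (2 : F) ≠ 0) {K : Type w} [Field K] [CharP K 2] {w : K}
    (hw : w ^ 2 + w + 1 = 0) (f : K × K → T) (hf : ∀ x y, f (x + y) = f x * f y) (hinj : Function.Injective f)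
    (hact : ∀ a b c d : K, a * d - b * c = 1 → ∃ g : T, ∀ x : K × K,
      g * f x * g⁻¹ = f (a * x.1 + b * x.2, c * x.1 + d * x.2)) : 10 ≤ n := by
  have h20 : (2 : K) = 0 := by exact_mod_cast CharP.cast_eq_zero K 2
  have hxx : ∀ x : K × K, x + x = 0 := by
    intro x
    ext
    · change x.1 + x.1 = 0; linear_combination x.1 * h20
    · change x.2 + x.2 = 0; linear_combination x.2 * h20
  have f0 : f 0 = 1 := by
    have := hf 0 0
    rw [add_zero] at this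
    exact left_eq_mul.1 this
  let E : Subgroup T :=
    { carrier := Set.range f
      mul_mem' := by
        rintro _ _ ⟨x, rfl⟩ ⟨y, rfl⟩
        exact ⟨x + y, hf x y⟩
      one_mem' := ⟨0, f0⟩
      inv_mem' := by
        rintro _ ⟨x, rfl⟩
        refine ⟨x, ?_⟩
        have := hf x x
        rw [hxx, f0] at this
        exact eq_inv_of_mul_eq_one_left this.symm }
  have hw0 : w ≠ 0 := by
    rintro rfl
    norm_num at hw
  have hw1 : w ≠ 1 := by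
    rintro rfl
    have : (1 : K) = 0 := by linear_combination hw - h20
    exact one_ne_zero this
  -- transitivity
  have tr1 : ∀ x : K × K, x ≠ 0 → ∃ g : T, g * f (1, 0) * g⁻¹ = f x := by
    intro x hx
    by_cases h1 : x.1 = 0
    · have h3 : x.2 ≠ 0 := fun h3 => hx (Prod.ext h1 h3)
      obtain ⟨g, hg⟩ := hact 0 (-(x.2)⁻¹) x.2 0 (by field_simp; ring)
      refine ⟨g, ?_⟩
      rw [hg]
      congr 1
      ext
      · simp [h1]
      · simp
    · obtain ⟨g, hg⟩ := hact x.1 0 x.2 (x.1)⁻¹ (by field_simp; ring)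
      refine ⟨g, ?_⟩
      rw [hg]
      congr 1
      ext
      · simp
      · simp
  obtain ⟨y, hy⟩ := hact 0 1 1 w (by linear_combination -h20)
  have hy' : ∀ x : K × K, y * f x * y⁻¹ = f (x.2, x.1 + w * x.2) := by
    intro x
    rw [hy]
    congr 1
    ext
    · simp
    · simp
  have key := h.elem' h2 E (by
    rintro _ ⟨x, rfl⟩
    rw [← hf, hxx, f0]) ?_ ?_ (y := y) ?_ (r := 5) (by norm_num) (by norm_num) ?_ ?_
  · omega
  · -- three independent elements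
    have ne : ∀ x y : K × K, x ≠ y → f x ≠ f y := fun x y hxy h => hxy (hinj h)
    refine ⟨f (1, 0), ⟨_, rfl⟩, f (0, 1), ⟨_, rfl⟩, f (w, 0), ⟨_, rfl⟩, ?_, ?_, ?_, ?_, ?_, ?_, ?_⟩
    · rw [← f0]; exact ne _ _ (by simp)
    · rw [← f0]; exact ne _ _ (by simp)
    · exact ne _ _ (by simp)
    · rw [← f0]; exact ne _ _ (by simp [hw0])
    · exact ne _ _ (by simp [hw1])
    · exact ne _ _ (by simp)
    · rw [← hf]; exact ne _ _ (by simp)
  · rintro _ ⟨x, rfl⟩ _ ⟨z, rfl⟩ hx hz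
    obtain ⟨g, hg⟩ := tr1 x (by rintro rfl; exact hx f0)
    obtain ⟨g', hg'⟩ := tr1 z (by rintro rfl; exact hz f0)
    refine ⟨g' * g⁻¹, ?_⟩
    rw [← hg, ← hg']
    group
  · rintro _ ⟨x, rfl⟩
    rw [hy']
    exact ⟨_, rfl⟩
  · rintro _ ⟨x, rfl⟩
    have e : y ^ 5 * f x * (y ^ 5)⁻¹ = y * (y * (y * (y * (y * f x * y⁻¹) * y⁻¹) * y⁻¹) * y⁻¹) * y⁻¹ := by
      simp only [pow_succ, pow_zero, one_mul, _root_.mul_inv_rev, mul_assoc]
    obtain ⟨p, q⟩ := x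
    have st : ∀ a b : K, y * f (a, b) * y⁻¹ = f (b, a + w * b) := fun a b => hy' (a, b)
    have e1 : y * f (q, p + w * q) * y⁻¹ = f (p + w * q, w * (p + q)) := by
      rw [st]; congr 2
      linear_combination q * hw - w * q * h20
    have e2 : y * f (p + w * q, w * (p + q)) * y⁻¹ = f (w * (p + q), w * p + q) := by
      rw [st]; congr 2
      linear_combination (p + q) * hw - (w * p + q) * h20
    have e3 : y * f (w * (p + q), w * p + q) * y⁻¹ = f (w * p + q, p) := by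
      rw [st]; congr 2
      linear_combination p * hw + (w * q - p) * h20
    have e4 : y * f (w * p + q, p) * y⁻¹ = f (p, q) := by
      rw [st]; congr 2
      linear_combination w * p * h20
    rw [e, st, e1, e2, e3, e4]
  · refine ⟨f (1, 0), ⟨_, rfl⟩, ?_⟩
    rw [hy']
    intro h
    have := congrArg Prod.fst (hinj h)
    simp at this

/-! ### `PSL_3(4)` -/

/-- the translations -/
def tr3 {K : Type w} [Field K] (x : K × K) : SpecialLinearGroup (Fin 3) K :=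
  ⟨!![1, 0, x.1; 0, 1, x.2; 0, 0, 1], by simp [Matrix.det_fin_three]⟩

theorem tr3_add {K : Type w} [Field K] (x y : K × K) : tr3 (x + y) = tr3 x * tr3 y := by
  apply Subtype.ext
  change !![1, 0, x.1 + y.1; 0, 1, x.2 + y.2; 0, 0, 1] = !![1, 0, x.1; 0, 1, x.2; 0, 0, 1] * !![1, 0, y.1; 0, 1, y.2; 0, 0, 1]
  ext i j
  fin_cases i <;> fin_cases j <;> simp [Matrix.mul_apply, Fin.sum_univ_three, add_comm]

theorem PA.psl34 (h : PA F n T) (h2 : (2 : F) ≠ 0) {K : Type w} [Field K] [Fintype K] (hK : Fintype.card K = 4)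
    (e : T ≃* ProjectiveSpecialLinearGroup (Fin 3) K) : 10 ≤ n := by
  have hpow : ∀ x : K, x ^ 4 = x := by
    intro x
    rw [← hK]; exact FiniteField.pow_card x
  have hchar : CharP K 2 := by
    obtain ⟨p, hp⟩ := CharP.exists K
    have : Fact p.Prime := ⟨CharP.char_is_prime K p⟩
    have h1 : p ∣ Fintype.card K := by
      obtain ⟨n, -, hn⟩ := FiniteField.card K p
      rw [hn]; exact dvd_pow_self _ n.pos.ne'
    rw [hK] at h1
    have h2 : p ∣ 2 := this.out.dvd_of_dvd_pow (show p ∣ 2 ^ 2 from h1)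
    rw [(Nat.prime_dvd_prime_iff_eq this.out Nat.prime_two).1 h2] at hp
    exact hp
  have hex : ∃ x : K, x ≠ 0 ∧ x ≠ 1 := by
    classical
    by_contra hcon
    push Not at hcon
    have h1 : (Finset.univ : Finset K) ⊆ {0, 1} := by
      intro x _
      rw [Finset.mem_insert, Finset.mem_singleton]
      by_cases h0 : x = 0
      · exact Or.inl h0
      · exact Or.inr (hcon x h0)
    have h2 := Finset.card_le_card h1
    rw [Finset.card_univ, hK] at h2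
    have h3 : ({0, 1} : Finset K).card ≤ 2 := Finset.card_le_two
    omega
  obtain ⟨w, hw0, hw1⟩ := hex
  have hw : w ^ 2 + w + 1 = 0 := by
    have h1 : w * (w - 1) * (w ^ 2 + w + 1) = 0 := by linear_combination hpow w
    exact (mul_eq_zero.1 h1).resolve_left (mul_ne_zero hw0 (sub_ne_zero.2 hw1))
  let f : K × K → ProjectiveSpecialLinearGroup (Fin 3) K := fun x => QuotientGroup.mk (tr3 x)
  refine (h.congr e.symm).sixteen h2 hw f (fun x y => ?_) ?_ ?_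
  · change QuotientGroup.mk _ = QuotientGroup.mk _ * QuotientGroup.mk _
    rw [tr3_add]; rfl
  · intro x y hxy
    have h1 : (tr3 x)⁻¹ * tr3 y ∈ Subgroup.center (SpecialLinearGroup (Fin 3) K) := QuotientGroup.eq.1 hxy
    have h3 : (tr3 x)⁻¹ = tr3 (-x) := by
      rw [inv_eq_iff_mul_eq_one, ← tr3_add, add_neg_cancel]
      apply Subtype.ext
      change !![(1 : K), 0, 0; 0, 1, 0; 0, 0, 1] = 1
      exact Matrix.one_fin_three.symm
    rw [h3, ← tr3_add, Matrix.SpecialLinearGroup.mem_center_iff] at h1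
    obtain ⟨r, -, hr⟩ := h1
    have e1 := congrFun (congrFun hr 0) 2
    have e2 := congrFun (congrFun hr 1) 2
    have d1 : (Matrix.scalar (Fin 3) r) 0 2 = 0 := by simp
    have d2 : (Matrix.scalar (Fin 3) r) 1 2 = 0 := by simp
    have k1 : (-x + y).1 = 0 := by
      have : (tr3 (-x + y)).1 0 2 = (-x + y).1 := rfl
      rw [← this, ← d1]; exact e1.symm
    have k2 : (-x + y).2 = 0 := by
      have : (tr3 (-x + y)).1 1 2 = (-x + y).2 := rfl
      rw [← this, ← d2]; exact e2.symm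
    ext
    · have : -x.1 + y.1 = 0 := k1
      linear_combination -this
    · have : -x.2 + y.2 = 0 := k2
      linear_combination -this
  · intro a b c d hdet
    let g : SpecialLinearGroup (Fin 3) K := ⟨!![a, b, 0; c, d, 0; 0, 0, 1], by
      simp [Matrix.det_fin_three]; linear_combination hdet⟩
    refine ⟨QuotientGroup.mk g, fun x => ?_⟩
    rw [mul_inv_eq_iff_eq_mul]
    change QuotientGroup.mk _ * QuotientGroup.mk _ = QuotientGroup.mk _ * QuotientGroup.mk _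
    have key : g * tr3 x = tr3 (a * x.1 + b * x.2, c * x.1 + d * x.2) * g := by
      apply Subtype.ext
      change !![a, b, 0; c, d, 0; 0, 0, 1] * !![1, 0, x.1; 0, 1, x.2; 0, 0, 1] =
        !![1, 0, a * x.1 + b * x.2; 0, 1, c * x.1 + d * x.2; 0, 0, 1] * !![a, b, 0; c, d, 0; 0, 0, 1]
      ext i j
      fin_cases i <;> fin_cases j <;> simp [Matrix.mul_apply, Fin.sum_univ_three]
    exact congrArg QuotientGroup.mk key

end Cfsg.Agent.H871.Par
end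

-- part: H905/JDTen
section
set_option linter.all false
open scoped Cfsg.Agent.FastGrp

/-!
# The double cover of the Hall-Janko group in degree at most twelve, odd characteristic (helper905)

* `neg_dims` : `dim V = 4 d + 6 m` with `4 d = dim {r1 = r2 = -1}`, `2 m = dim {r1 = -1, r2 = 1}`;
* `ten_false` : `d = m = 1` is impossible;
* **`neg_six`** : an irreducible representation of degree at most twelve with `-1 ↦ -1` has degree six.
-/

set_option autoImplicit false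
set_option linter.unusedSectionVars false

namespace Cfsg.Agent.H905.JD

open Subgroup Cfsg.Spor Cfsg.Agent.J2.ZTau Cfsg.Agent.J2.Ico Cfsg.Agent.J2.Lattice Cfsg.Agent.J2.Refl
  Cfsg.Agent.J2.Group Cfsg.Agent.J2.Stab Cfsg.Agent.J2.SixGens Cfsg.Agent.H1.J2Lift
open Module

variable {k V : Type*} [Field k] [AddCommGroup V] [Module k V] {ρ : W →* Module.End k V}

theorem mem_pos {v : V} : v ∈ Wt ρ (-1 : k) 1 ↔ ρ r1 v = -v ∧ ρ r2 v = v := by
  rw [mem_Wt, neg_one_smul, one_smul]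

theorem mem_neg {v : V} : v ∈ Wt ρ (-1 : k) (-1) ↔ ρ r1 v = -v ∧ ρ r2 v = -v := by
  rw [mem_Wt, neg_one_smul]

theorem E1 {a : W} (e : a * r1 = r1 * a) {u : V} (h : ρ r1 u = -u) : ρ r1 (ρ a u) = -ρ a u := by
  have := comm_apply (ρ := ρ) e (v := u) (δ := -1) (by rw [h, neg_one_smul])
  rwa [neg_one_smul] at this

theorem E1' {a : W} (e : a * r1 = r1 * a) {u : V} (h : ρ r1 u = -u) : ρ r1 (ρ a⁻¹ u) = -ρ a⁻¹ u := by
  have := inv_comm (ρ := ρ) e (v := u) (δ := -1) (by rw [h, neg_one_smul])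
  rwa [neg_one_smul] at this

/-- fixed vectors in `{r1 = -1}` -/
noncomputable def Kf (ρ : W →* Module.End k V) (w : W) : Submodule k V := Ep (Ep ⊤ (ρ r1) (-1)) (ρ w) 1

theorem mem_Kf {w : W} {v : V} : v ∈ Kf ρ w ↔ ρ r1 v = -v ∧ ρ w v = v :=
  ⟨fun h => ⟨by rw [h.1.2, neg_one_smul], by rw [h.2, one_smul]⟩,
    fun h => ⟨⟨trivial, by rw [h.1, neg_one_smul]⟩, by rw [h.2, one_smul]⟩⟩

theorem Kf_two : Kf ρ r2 = Wt ρ (-1 : k) 1 := rfl

section dims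

variable [FiniteDimensional k V] (h2 : (2 : k) ≠ 0)

theorem Kf_conj {g a b : W} (hg : g * r1 = r1 * g) (h : g * a = b * g) : finrank k (Kf ρ a) = finrank k (Kf ρ b) := by
  apply le_antisymm
  · refine finrank_le_of_inj (y := ρ g) (fun v hv => ?_) (fun v hv => inj ρ g hv)
    obtain ⟨h3, h4⟩ := mem_Kf.1 hv
    exact mem_Kf.2 ⟨E1 hg h3, by rw [← ap22 ρ h, h4]⟩
  · refine finrank_le_of_inj (y := ρ g⁻¹) (fun v hv => ?_) (fun v hv => inj ρ g⁻¹ hv)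
    obtain ⟨h3, h4⟩ := mem_Kf.1 hv
    have h' : a * g⁻¹ = g⁻¹ * b := by rw [eq_inv_mul_iff_mul_eq, ← mul_assoc, h, mul_inv_cancel_right]
    exact mem_Kf.2 ⟨E1' hg h3, by rw [ap22 ρ h', h4]⟩

include h2

/-- **the dimensions of the weight spaces** -/
theorem neg_dims (hng : ∀ v, ρ ng v = -v) {ι : k} (hι : ι * ι = -1) :
    ∃ d m, finrank k (Wt ρ (-1 : k) (-1)) = 4 * d ∧ finrank k (Wt ρ (-1 : k) 1) = 2 * m ∧
      finrank k V = 4 * d + 6 * m := by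
  have hε : ∀ v, ρ ng v = (-1 : k) • v := fun v => by rw [hng, neg_one_smul]
  have hε1 : (-1 : k) * -1 = 1 := by norm_num
  have hι0 : ι ≠ 0 := by rintro rfl; rw [mul_zero] at hι; exact one_ne_zero (neg_eq_zero.1 hι.symm)
  have h3 : ∀ {v : V}, v ∈ Wt ρ (-1 : k) (-1) → ρ r3 v = -v := fun {v} hv => by
    rw [r3_of hε hε1 hv, hε1, one_mul, neg_one_smul]
  have hr1 : ∀ {v : V}, v ∈ Wt ρ (-1 : k) (-1) → ρ r1 v = -v := fun {v} hv => (mem_neg.1 hv).1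
  have sI : ∀ v ∈ Wt ρ (-1 : k) (-1), ρ Ii v ∈ Wt ρ (-1 : k) (-1) := fun v hv => stab_wt q_I1 q_I2 hv
  have sJ : ∀ v ∈ Wt ρ (-1 : k) (-1), ρ Jj v ∈ Wt ρ (-1 : k) (-1) := fun v hv => stab_wt q_J1 q_J2 hv
  have si : ∀ v ∈ Wt ρ (-1 : k) (-1), ρ I2 v ∈ Wt ρ (-1 : k) (-1) := fun v hv => stab_wt q_i1 q_i2 hv
  have sj : ∀ v ∈ Wt ρ (-1 : k) (-1), ρ J2' v ∈ Wt ρ (-1 : k) (-1) := fun v hv => stab_wt q_j1 q_j2 hv
  obtain ⟨d, hd⟩ := four_dvd (ρ := ρ) h2 (S := Wt ρ (-1 : k) (-1)) (x₁ := I2) (y₁ := Jj) (x₂ := J2') (y₂ := Ii)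
    si sJ sj sI
    (fun v hv => by rw [ap22 ρ q_ii, h3 hv, map_neg, hr1 hv, neg_neg])
    (fun v hv => by rw [ap22 ρ q_jj, h3 hv, map_neg, hr1 hv, neg_neg])
    (fun v hv => anti_of q_iJ (h3 (sJ _ (si _ hv))))
    (fun v hv => by
      have := anti_of (ρ := ρ) q_Ij (v := v) (h3 (sj _ (sI _ hv)))
      rw [this, neg_neg])
    (fun v hv => by
      rw [← ap2, q_ij, ap2, ap2, ap2, h3 (sj _ (si _ hv)), map_neg, hr1 (sj _ (si _ hv)), neg_neg])
    (fun v hv => by rw [ap22 ρ q_Ii])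
  have g3 : ∀ {v : V}, v ∈ Wt ρ (-1 : k) 1 → ρ r3 v = v := fun {v} hv => by
    rw [r3_of hε hε1 hv, hε1, one_mul, one_smul]
  have g1 : ∀ {v : V}, v ∈ Wt ρ (-1 : k) 1 → ρ r1 v = -v := fun {v} hv => (mem_pos.1 hv).1
  have ti : ∀ v ∈ Wt ρ (-1 : k) 1, ρ I2 v ∈ Wt ρ (-1 : k) 1 := fun v hv => stab_wt q_i1 q_i2 hv
  have tj : ∀ v ∈ Wt ρ (-1 : k) 1, ρ J2' v ∈ Wt ρ (-1 : k) 1 := fun v hv => stab_wt q_j1 q_j2 hv
  have e1 := finrank_swap (r := ρ I2) (y := ρ J2') (S := Wt ρ (-1 : k) 1) (μ := ι) h2 hι0 ti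
    (fun v hv => by rw [ap22 ρ q_ii, g3 hv, g1 hv, hι, neg_one_smul]) tj (fun v hv => inj ρ _ hv)
    (fun v hv => by
      rw [← ap2, q_ij, ap2, ap2, ap2, g3 (tj _ (ti _ hv)), g1 (tj _ (ti _ hv))])
  have h4 := dim_formula hε hε1 h2
  rw [neg_neg, hd, e1] at h4
  exact ⟨d, _, hd, e1, by rw [h4]; ring⟩

end dims

section ten

variable [FiniteDimensional k V] (h2 : (2 : k) ≠ 0) (hng : ∀ v, ρ ng v = -v)
include h2 hng

theorem E_r3 {v : V} (h : ρ r1 v = -v) : ρ r3 v = ρ r2 v := by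
  have e := ap22 ρ q_12_3 v
  rw [ap22 ρ q_12, h, map_neg, hng] at e
  exact (neg_injective e).symm

/-- an involution commuting with a quaternion group on a plane -/
theorem scal {ι : k} (hι : ι * ι = -1) (hm : finrank k (Wt ρ (-1 : k) 1) = 2) {T : W}
    (hT : ∀ v ∈ Wt ρ (-1 : k) 1, ρ T v ∈ Wt ρ (-1 : k) 1) (hTT : ∀ v ∈ Wt ρ (-1 : k) 1, ρ T (ρ T v) = v)
    (hi : ∀ v ∈ Wt ρ (-1 : k) 1, ρ T (ρ I2 v) = ρ I2 (ρ T v))
    (hj : ∀ v ∈ Wt ρ (-1 : k) 1, ρ T (ρ J2' v) = ρ J2' (ρ T v)) :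
    (∀ v ∈ Wt ρ (-1 : k) 1, ρ T v = v) ∨ ∀ v ∈ Wt ρ (-1 : k) 1, ρ T v = -v := by
  have hι0 : ι ≠ 0 := by rintro rfl; rw [mul_zero] at hι; exact one_ne_zero (neg_eq_zero.1 hι.symm)
  have g1 : ∀ {v : V}, v ∈ Wt ρ (-1 : k) 1 → ρ r1 v = -v := fun {v} hv => (mem_pos.1 hv).1
  have g3 : ∀ {v : V}, v ∈ Wt ρ (-1 : k) 1 → ρ r3 v = v := fun {v} hv => by
    rw [E_r3 h2 hng (g1 hv), (mem_pos.1 hv).2]
  have ti : ∀ v ∈ Wt ρ (-1 : k) 1, ρ I2 v ∈ Wt ρ (-1 : k) 1 := fun v hv => stab_wt q_i1 q_i2 hv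
  have tj : ∀ v ∈ Wt ρ (-1 : k) 1, ρ J2' v ∈ Wt ρ (-1 : k) 1 := fun v hv => stab_wt q_j1 q_j2 hv
  let S := Ep (Wt ρ (-1 : k) 1) (ρ T) 1
  have e1 := finrank_swap (r := ρ I2) (y := ρ J2') (S := S) (μ := ι) h2 hι0
    (fun v hv => ⟨ti v hv.1, by rw [hi v hv.1, hv.2, map_smul]⟩)
    (fun v hv => by rw [ap22 ρ q_ii, g3 hv.1, g1 hv.1, hι, neg_one_smul])
    (fun v hv => ⟨tj v hv.1, by rw [hj v hv.1, hv.2, map_smul]⟩) (fun v hv => inj ρ _ hv)
    (fun v hv => by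
      rw [← ap2, q_ij, ap2, ap2, ap2, g3 (tj _ (ti _ hv.1)), g1 (tj _ (ti _ hv.1))])
  have hle : S ≤ Wt ρ (-1 : k) 1 := fun v hv => hv.1
  have h3 := Submodule.finrank_mono hle
  rw [hm] at h3
  have h4 : finrank k S = 0 ∨ finrank k S = 2 := by omega
  rcases h4 with h4 | h4
  · right
    have h5 : S = ⊥ := Submodule.finrank_eq_zero.1 h4
    intro v hv
    have h6 : v + ρ T v ∈ S := ⟨Submodule.add_mem _ hv (hT v hv), by
      rw [map_add, hTT v hv, one_smul, add_comm]⟩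
    rw [h5, Submodule.mem_bot] at h6
    rw [eq_neg_iff_add_eq_zero, add_comm, h6]
  · left
    have h5 : S = Wt ρ (-1 : k) 1 := Submodule.eq_of_le_of_finrank_eq hle (by rw [h4, hm])
    intro v hv
    have h6 : v ∈ S := by rw [h5]; exact hv
    rw [h6.2, one_smul]

/-- **`d = m = 1` is impossible** -/
theorem ten_false {ι : k} (hι : ι * ι = -1) (hm : finrank k (Wt ρ (-1 : k) 1) = 2)
    (hd : finrank k (Wt ρ (-1 : k) (-1)) = 4) : False := by
  have g1 : ∀ {v : V}, v ∈ Wt ρ (-1 : k) 1 → ρ r1 v = -v := fun {v} hv => (mem_pos.1 hv).1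
  have g2 : ∀ {v : V}, v ∈ Wt ρ (-1 : k) 1 → ρ r2 v = v := fun {v} hv => (mem_pos.1 hv).2
  have g3 : ∀ {v : V}, v ∈ Wt ρ (-1 : k) 1 → ρ r3 v = v := fun {v} hv => by
    rw [E_r3 h2 hng (g1 hv), (mem_pos.1 hv).2]
  have n1 : ∀ {v : V}, v ∈ Wt ρ (-1 : k) (-1) → ρ r1 v = -v := fun {v} hv => (mem_neg.1 hv).1
  have n2 : ∀ {v : V}, v ∈ Wt ρ (-1 : k) (-1) → ρ r2 v = -v := fun {v} hv => (mem_neg.1 hv).2
  have n3 : ∀ {v : V}, v ∈ Wt ρ (-1 : k) (-1) → ρ r3 v = -v := fun {v} hv => by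
    rw [E_r3 h2 hng (n1 hv), (mem_neg.1 hv).2]
  have stP : ∀ {w : W}, w * r1 = r1 * w → w * r2 = r2 * w → ∀ v ∈ Wt ρ (-1 : k) 1, ρ w v ∈ Wt ρ (-1 : k) 1 :=
    fun {w} e1 e2 v hv => stab_wt e1 e2 hv
  have stN : ∀ {w : W}, w * r1 = r1 * w → w * r2 = r2 * w → ∀ v ∈ Wt ρ (-1 : k) (-1),
      ρ w v ∈ Wt ρ (-1 : k) (-1) := fun {w} e1 e2 v hv => stab_wt e1 e2 hv
  -- `sw` commutes with `r2` on `{r1 = -1}`
  have st : ∀ {v : V}, ρ r1 v = -v → ρ sw (ρ r2 v) = ρ r2 (ρ sw v) := fun {v} h => by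
    rw [ap22 ρ q_t2, E_r3 h2 hng (E1 q_t1 h)]
  have tP : ∀ v ∈ Wt ρ (-1 : k) 1, ρ sw v ∈ Wt ρ (-1 : k) 1 := fun v hv => mem_pos.2
    ⟨E1 q_t1 (g1 hv), by rw [← st (g1 hv), g2 hv]⟩
  have tN : ∀ v ∈ Wt ρ (-1 : k) (-1), ρ sw v ∈ Wt ρ (-1 : k) (-1) := fun v hv => mem_neg.2
    ⟨E1 q_t1 (n1 hv), by rw [← st (n1 hv), n2 hv, map_neg]⟩
  have disj : ∀ {v : V}, v ∈ Wt ρ (-1 : k) 1 → v ∈ Wt ρ (-1 : k) (-1) → v = 0 := fun {v} h h' =>
    eq_zero_of_two h2 (by rw [← n2 h', g2 h])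
  -- the scalars on the plane
  have hI := scal h2 hng hι hm (T := Ii) (stP q_I1 q_I2) (fun v hv => by rw [ap22 ρ q_II, g3 hv, g2 hv])
    (fun v hv => by rw [ap22 ρ q_Ii]) (fun v hv => by
      rw [← ap2, q_Ij, ap2, ap2, g3 (stP q_j1 q_j2 _ (stP q_I1 q_I2 _ hv))])
  have hJ := scal h2 hng hι hm (T := Jj) (stP q_J1 q_J2) (fun v hv => by rw [ap22 ρ q_JJ, g3 hv, g2 hv])
    (fun v hv => by
      have := ap ρ q_iJ v
      rw [ap2, ap2, ap2, g3 (stP q_J1 q_J2 _ (stP q_i1 q_i2 _ hv))] at this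
      exact this.symm) (fun v hv => by rw [ap22 ρ q_Jj])
  obtain ⟨u, hu, hu0⟩ := (Submodule.ne_bot_iff _).1 (show Wt ρ (-1 : k) 1 ≠ ⊥ from fun h => by
    rw [h, finrank_bot] at hm; omega)
  have hou := stP q_c1 q_c2 _ hu
  have hou0 : ρ om u ≠ 0 := fun h => hu0 (inj ρ om h)
  have e1 := ap22 ρ q_cI u
  have e2 := ap ρ q_cJ u
  rw [ap2, ap2, ap2] at e2
  have nz : ∀ {x : V}, x ≠ 0 → x ≠ -x := fun {x} h h' => h (eq_zero_of_two h2 h')
  have hIJ : (∀ v ∈ Wt ρ (-1 : k) 1, ρ Ii v = v) ∧ ∀ v ∈ Wt ρ (-1 : k) 1, ρ Jj v = v := by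
    rcases hI with hI | hI <;> rcases hJ with hJ | hJ
    · exact ⟨hI, hJ⟩
    · rw [hI u hu, hJ _ hou] at e1
      exact absurd e1 (nz hou0)
    · rw [hI u hu, map_neg, hJ _ hou] at e1
      exact absurd e1.symm (nz hou0)
    · rw [hJ u hu, map_neg, hJ _ hou, map_neg, hI _ hou, neg_neg] at e2
      exact absurd e2.symm (nz hou0)
  obtain ⟨hI, hJ⟩ := hIJ
  clear e1 e2
  have g3' : sw * nn = nn⁻¹ * sw := by rw [eq_inv_mul_iff_mul_eq, ← mul_assoc, q_ntn]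
  have g4' : sw * nn⁻¹ = nn * sw := by rw [mul_inv_eq_iff_eq_mul, q_ntn]
  have c2 : sw * I2 = Ii * I2 * r3 * sw := by
    rw [← q_k, I2, I3, mul_assoc nn Ii, ← mul_assoc sw nn, g3', mul_assoc nn⁻¹ sw, ← mul_assoc sw Ii, q_tI,
      mul_assoc Ii sw, g4']
    group
  have c3 : sw * J2' = Jj * J2' * r3 * sw := by
    rw [← q_l, J2', J3', mul_assoc nn Jj, ← mul_assoc sw nn, g3', mul_assoc nn⁻¹ sw, ← mul_assoc sw Jj, q_tJ,
      mul_assoc Jj sw, g4']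
    group
  have ht := scal h2 hng hι hm (T := sw) tP (fun v hv => ap20 ρ q_tt v)
    (fun v hv => by
      rw [ap22 ρ c2, ap2, g3 (tP _ hv), ap2, hI _ (stP q_i1 q_i2 _ (tP _ hv))])
    (fun v hv => by
      rw [ap22 ρ c3, ap2, g3 (tP _ hv), ap2, hJ _ (stP q_j1 q_j2 _ (tP _ hv))])
  have k2 : finrank k (Kf ρ r2) = 2 := by rw [Kf_two, hm]
  have kt : finrank k (Kf ρ sw) = 2 := by rw [Kf_conj q_G1 q_2G.symm, k2]
  have aI : ∀ {v : V}, v ∈ Wt ρ (-1 : k) (-1) → ρ Ii (ρ J2' v) = -ρ J2' (ρ Ii v) := fun {v} hv =>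
    anti_of q_Ij (n3 (stN q_j1 q_j2 _ (stN q_I1 q_I2 _ hv)))
  have aJ : ∀ {v : V}, v ∈ Wt ρ (-1 : k) (-1) → ρ Jj (ρ I2 v) = -ρ I2 (ρ Jj v) := fun {v} hv => by
    have := anti_of (ρ := ρ) q_iJ (v := v) (n3 (stN q_J1 q_J2 _ (stN q_i1 q_i2 _ hv)))
    rw [this, neg_neg]
  have hII : ∀ v ∈ Wt ρ (-1 : k) (-1), ρ Ii (ρ Ii v) = v := fun v hv => by
    rw [ap22 ρ q_II, n3 hv, map_neg, n2 hv, neg_neg]
  have hJJ : ∀ v ∈ Wt ρ (-1 : k) (-1), ρ Jj (ρ Jj v) = v := fun v hv => by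
    rw [ap22 ρ q_JJ, n3 hv, map_neg, n2 hv, neg_neg]
  obtain ⟨z, hz, hz0⟩ := (Submodule.ne_bot_iff _).1 (show Wt ρ (-1 : k) (-1) ≠ ⊥ from fun h => by
    rw [h, finrank_bot] at hd; omega)
  rcases ht with ht | ht
  · -- `sw = 1` on the plane
    have hK : Wt ρ (-1 : k) 1 = Kf ρ sw := Submodule.eq_of_le_of_finrank_eq
      (fun v hv => mem_Kf.2 ⟨g1 hv, ht v hv⟩) (by rw [hm, kt])
    have hN : ∀ v ∈ Wt ρ (-1 : k) (-1), ρ sw v = -v := fun v hv => by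
      have h3 : v + ρ sw v ∈ Wt ρ (-1 : k) 1 := by
        rw [hK]
        exact mem_Kf.2 ⟨by rw [map_add, n1 hv, E1 q_t1 (n1 hv)]; abel, by
          rw [map_add, ap20 ρ q_tt, add_comm]⟩
      have h4 := disj h3 (Submodule.add_mem _ hv (tN v hv))
      rw [eq_neg_iff_add_eq_zero, add_comm, h4]
    have kx : finrank k (Kf ρ (r2 * sw * Ii)) = 2 := by rw [← Kf_conj q_x1 q_x2, k2]
    have hK' : Wt ρ (-1 : k) 1 = Kf ρ (r2 * sw * Ii) := Submodule.eq_of_le_of_finrank_eq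
      (fun v hv => mem_Kf.2 ⟨g1 hv, by rw [ap2, ap2, hI v hv, ht v hv, g2 hv]⟩) (by rw [hm, kx])
    have hx : ∀ v ∈ Wt ρ (-1 : k) (-1), ρ (r2 * sw * Ii) v = ρ Ii v := fun v hv => by
      have h3 := stN q_I1 q_I2 _ hv
      rw [ap2, ap2, hN _ h3, map_neg, n2 h3, neg_neg]
    have hIN : ∀ v ∈ Wt ρ (-1 : k) (-1), ρ Ii v = -v := fun v hv => by
      have hv' := stN q_I1 q_I2 _ hv
      have h3 : v + ρ Ii v ∈ Wt ρ (-1 : k) 1 := by
        rw [hK']
        exact mem_Kf.2 ⟨by rw [map_add, n1 hv, E1 q_I1 (n1 hv)]; abel, by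
          rw [map_add, hx v hv, hx _ hv', hII v hv, add_comm]⟩
      have h4 := disj h3 (Submodule.add_mem _ hv hv')
      rw [eq_neg_iff_add_eq_zero, add_comm, h4]
    have h3 := aI hz
    rw [hIN _ (stN q_j1 q_j2 _ hz), hIN z hz, map_neg, neg_neg] at h3
    exact hz0 (inj ρ J2' (eq_zero_of_two h2 h3.symm))
  · -- `sw = -1` on the plane
    have hEs : ∀ {v : V}, v ∈ Kf ρ sw → v ∈ Wt ρ (-1 : k) (-1) := fun {v} hv => by
      obtain ⟨h3, h4⟩ := mem_Kf.1 hv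
      have h5 : v + ρ r2 v ∈ Wt ρ (-1 : k) 1 := mem_pos.2 ⟨by
        rw [map_add, h3, E1 q_12.symm h3]; abel, by rw [map_add, ap20 ρ q_22, add_comm]⟩
      have h6 := ht _ h5
      rw [map_add, st h3, h4] at h6
      have h7 := eq_zero_of_two h2 h6
      exact mem_neg.2 ⟨h3, by rw [eq_neg_iff_add_eq_zero, add_comm, h7]⟩
    let N := Wt ρ (-1 : k) (-1)
    let X := Ep N (ρ sw) (-1)
    have hs := finrank_split (r := ρ sw) (S := N) (μ := 1) h2 one_ne_zero tN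
      (fun v _ => by rw [ap20 ρ q_tt, mul_one, one_smul])
    have hEs1 : finrank k (Kf ρ sw) ≤ finrank k (Ep N (ρ sw) 1) := Submodule.finrank_mono (fun v hv =>
      ⟨hEs hv, by rw [(mem_Kf.1 hv).2, one_smul]⟩)
    have mX : ∀ {v : V}, v ∈ X ↔ v ∈ N ∧ ρ sw v = -v := fun {v} => by rw [mem_Ep, neg_one_smul]
    -- the image of the plane under `xx`
    have hx : ∀ w ∈ Wt ρ (-1 : k) 1, ρ xx w ∈ X ∧ ρ Ii (ρ xx w) = ρ xx w := fun w hw => by
      have h4 : ρ sw (ρ xx w) = -ρ xx w := by rw [← ap22 ρ q_xt, ht w hw, map_neg]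
      have h5 : ρ Ii (ρ xx w) = ρ xx w := by rw [← ap22 ρ q_xI, hI w hw]
      have h6 := ap ρ q_x2 w
      rw [ap2, g2 hw, ap2, ap2, ap2, h5, h4, map_neg] at h6
      refine ⟨mX.2 ⟨mem_neg.2 ⟨E1 q_x1 (g1 hw), ?_⟩, h4⟩, h5⟩
      rw [h6, neg_neg, ← h6]
    have kX : 2 ≤ finrank k (Ep X (ρ Ii) 1) := by
      rw [← hm]
      exact finrank_le_of_inj (y := ρ xx) (fun w hw => ⟨(hx w hw).1, by rw [(hx w hw).2, one_smul]⟩)
        (fun v hv => inj ρ xx hv)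
    have kX2 : finrank k (Ep X (ρ Ii) 1) ≤ finrank k X := Submodule.finrank_mono fun v hv => hv.1
    have hsum : finrank k N = finrank k (Ep N (ρ sw) 1) + finrank k X := hs
    rw [show finrank k N = 4 from hd] at hsum
    have X2 : finrank k X = 2 := by omega
    have XI : ∀ v ∈ X, ρ Ii v = v := fun v hv => by
      have h3 : Ep X (ρ Ii) 1 = X := Submodule.eq_of_le_of_finrank_eq (fun v hv => hv.1) (by omega)
      rw [← h3] at hv
      rw [hv.2, one_smul]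
    have Xo : ∀ v ∈ X, ρ om v ∈ X := fun v hv => by
      obtain ⟨h3, h4⟩ := mX.1 hv
      exact mX.2 ⟨stN q_c1 q_c2 _ h3, by rw [← ap22 ρ q_ct, h4, map_neg]⟩
    have XJ : ∀ v ∈ X, ρ Jj v = v := fun v hv => by
      have h3 : X.map (ρ om) = X := by
        refine Submodule.eq_of_le_of_finrank_eq ?_ ?_
        · rintro _ ⟨v, hv, rfl⟩
          exact Xo v hv
        · exact (LinearEquiv.finrank_eq (Submodule.equivMapOfInjective (ρ om)
            (fun a b hab => (inj_iff ρ om).1 hab) X)).symm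
      rw [← h3] at hv
      obtain ⟨w, hw, rfl⟩ := hv
      rw [← ap22 ρ q_cI, XI w hw]
    -- on `{sw = 1}`
    have key : ∀ {T Y : W}, (∀ v ∈ N, ρ T v ∈ N) → (∀ v ∈ N, ρ Y v ∈ N) → (∀ v ∈ N, ρ T (ρ T v) = v) →
        (∀ v ∈ N, ρ T (ρ Y v) = -ρ Y (ρ T v)) → (∀ v ∈ X, ρ T v = v) → sw * T = T * sw →
        ∀ v ∈ Kf ρ sw, ρ T v = -v := by
      intro T Y hT hY hTT hTY hX hsT v hv
      have h3 := finrank_swap (r := ρ T) (y := ρ Y) (S := N) (μ := 1) h2 one_ne_zero hT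
        (fun v hv => by rw [hTT v hv, mul_one, one_smul]) hY (fun v hv => inj ρ _ hv) hTY
      rw [show finrank k N = 4 from hd] at h3
      have h4 : X = Ep N (ρ T) 1 := Submodule.eq_of_le_of_finrank_eq
        (fun w hw => ⟨(mX.1 hw).1, by rw [hX w hw, one_smul]⟩) (by omega)
      have hvN := hEs hv
      have hvs := (mem_Kf.1 hv).2
      have h5 : v + ρ T v ∈ X := by
        rw [h4]
        exact ⟨Submodule.add_mem _ hvN (hT v hvN), by rw [map_add, hTT v hvN, one_smul, add_comm]⟩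
      have h6 := (mX.1 h5).2
      rw [map_add, ap22 ρ hsT, hvs] at h6
      have h7 := eq_zero_of_two h2 h6
      rw [eq_neg_iff_add_eq_zero, add_comm, h7]
    have EI := key (T := Ii) (Y := J2') (stN q_I1 q_I2) (stN q_j1 q_j2) hII (fun v hv => aI hv) XI q_tI
    have EJ := key (T := Jj) (Y := I2) (stN q_J1 q_J2) (stN q_i1 q_i2) hJJ (fun v hv => aJ hv) XJ q_tJ
    obtain ⟨y, hy, hy0⟩ := (Submodule.ne_bot_iff _).1 (show Kf ρ sw ≠ ⊥ from fun h => by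
      rw [h, finrank_bot] at kt; omega)
    have hoy : ρ om y ∈ Kf ρ sw := mem_Kf.2 ⟨E1 q_c1 (mem_Kf.1 hy).1, by rw [← ap22 ρ q_ct, (mem_Kf.1 hy).2]⟩
    have e2 := ap ρ q_cJ y
    rw [ap2, ap2, ap2, EJ y hy, map_neg, EJ _ hoy, map_neg, EI _ hoy, neg_neg] at e2
    exact hy0 (inj ρ om (eq_zero_of_two h2 e2.symm))

end ten

/-- **the double cover in degree at most twelve** -/
theorem neg_six [IsAlgClosed k] [FiniteDimensional k V] [Nontrivial V] (h2 : (2 : k) ≠ 0)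
    (hng : ∀ v, ρ ng v = -v) (hdim : finrank k V ≤ 12)
    (hirr : ∀ L : Submodule k V, (∀ g, ∀ v ∈ L, ρ g v ∈ L) → L = ⊥ ∨ L = ⊤) : finrank k V = 6 := by
  obtain ⟨ι, hι⟩ := IsAlgClosed.exists_pow_nat_eq (-1 : k) two_pos
  have hι2 : ι * ι = -1 := by rw [← hι]; ring
  obtain ⟨d, m, hd, hm, hV⟩ := neg_dims h2 hng hι2
  have hpos : 0 < finrank k V := finrank_pos
  rcases Nat.eq_zero_or_pos m with h0 | h0
  · -- no plane
    exfalso
    have htop : Wt ρ (-1 : k) (-1) = ⊤ := Submodule.eq_top_of_finrank_eq (by rw [hd, hV, h0]; omega)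
    have hr1 : ∀ v, ρ r1 v = -v := fun v => (mem_neg.1 (by rw [htop]; trivial)).1
    have hr2 : ∀ v, ρ r2 v = -v := fun v => (mem_neg.1 (show v ∈ Wt ρ (-1 : k) (-1) by rw [htop]; trivial)).2
    have hr3 : ∀ v, ρ r3 v = -v := fun v => by
      have e := ap22 ρ q_12_3 v
      rw [hr2, map_neg, hr1, neg_neg, hng] at e
      exact (neg_eq_iff_eq_neg.2 e).symm
    have hsw : ∀ v, ρ sw v = -v := fun v => by
      rw [← inj_iff ρ gg, ← ap22 ρ q_2G, hr2, map_neg]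
    have hI : ∀ v, ρ Ii v = -v := fun v => by
      have e := ap ρ q_x2 (ρ xx⁻¹ v)
      rw [ap2, hr2, map_neg, inv_r, ap2, inv_r, ap2, ap2, hr2, hsw, neg_neg] at e
      exact e.symm
    obtain ⟨v, hv⟩ := exists_ne (0 : V)
    have e := ap ρ q_Ij v
    rw [ap2, hI, ap2, ap2, hI, hr3, map_neg, neg_neg] at e
    exact hv (inj ρ J2' (eq_zero_of_two h2 e.symm))
  · have hcase : (d = 0 ∧ m = 1) ∨ (d = 0 ∧ m = 2) ∨ (d = 1 ∧ m = 1) := by omega
    rcases hcase with ⟨rfl, rfl⟩ | ⟨rfl, rfl⟩ | ⟨rfl, rfl⟩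
    · exact hV
    · exact (neg_false h2 hng hV hirr).elim
    · exact (ten_false h2 hng hι2 hm hd).elim

/-- the dimension in the case `ρ(-1) = 1` -/
theorem triv_dims [FiniteDimensional k V] (h2 : (2 : k) ≠ 0) (hng : ∀ v, ρ ng v = v) :
    ∃ d, finrank k V = finrank k (Wt ρ (1 : k) 1) + 12 * d := by
  have hε : ∀ v, ρ ng v = (1 : k) • v := fun v => by rw [hng, one_smul]
  have h3 : ∀ {v : V}, v ∈ Wt ρ (1 : k) (-1) → ρ r3 v = -v := fun {v} hv => by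
    rw [r3_of hε (one_mul 1) hv, one_mul, one_mul, neg_one_smul]
  have hr2 : ∀ {v : V}, v ∈ Wt ρ (1 : k) (-1) → ρ r2 v = -v := fun {v} hv => by
    rw [(mem_Wt.1 hv).2, neg_one_smul]
  have hr1 : ∀ {v : V}, v ∈ Wt ρ (1 : k) (-1) → ρ r1 v = v := fun {v} hv => by
    rw [(mem_Wt.1 hv).1, one_smul]
  have sI : ∀ v ∈ Wt ρ (1 : k) (-1), ρ Ii v ∈ Wt ρ (1 : k) (-1) := fun v hv => stab_wt q_I1 q_I2 hv
  have sJ : ∀ v ∈ Wt ρ (1 : k) (-1), ρ Jj v ∈ Wt ρ (1 : k) (-1) := fun v hv => stab_wt q_J1 q_J2 hv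
  have sj : ∀ v ∈ Wt ρ (1 : k) (-1), ρ J2' v ∈ Wt ρ (1 : k) (-1) := fun v hv => stab_wt q_j1 q_j2 hv
  have k1 : I3 * r1 = r1 * I3 := by
    rw [q_k, mul_assoc (Ii * I2), ← q_13, ← mul_assoc (Ii * I2), mul_assoc Ii I2 r1, q_i1, ← mul_assoc, q_I1]
    group
  have k2 : I3 * r2 = r2 * I3 := by
    rw [q_k, mul_assoc (Ii * I2), ← q_23, ← mul_assoc (Ii * I2), mul_assoc Ii I2 r2, q_i2, ← mul_assoc, q_I2]
    group
  have sk : ∀ v ∈ Wt ρ (1 : k) (-1), ρ I3 v ∈ Wt ρ (1 : k) (-1) := fun v hv => stab_wt k1 k2 hv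
  obtain ⟨d, hd⟩ := four_dvd (ρ := ρ) h2 (S := Wt ρ (1 : k) (-1)) (x₁ := Ii) (y₁ := J2') (x₂ := Jj) (y₂ := I3)
    sI sj sJ sk
    (fun v hv => by rw [ap22 ρ q_II, h3 hv, map_neg, hr2 hv, neg_neg])
    (fun v hv => by rw [ap22 ρ q_JJ, h3 hv, map_neg, hr2 hv, neg_neg])
    (fun v hv => anti_of q_Ij (h3 (sj _ (sI _ hv))))
    (fun v hv => anti_of q_Jk (hr2 (sk _ (sJ _ hv))))
    (fun v hv => by
      rw [← ap2, q_IJ, ap2, ap2, ap2, h3 (sJ _ (sI _ hv)), map_neg, hr2 (sJ _ (sI _ hv)), neg_neg])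
    (fun v hv => by rw [ap22 ρ q_Ik])
  have h4 := dim_formula hε (one_mul 1) h2
  rw [hd] at h4
  exact ⟨d, by rw [h4]; ring⟩

/-- **the group itself in degree at most twelve** -/
theorem triv_one [FiniteDimensional k V] (h2 : (2 : k) ≠ 0) (hng : ∀ v, ρ ng v = v) (hdim : finrank k V ≤ 12)
    (hirr : ∀ L : Submodule k V, (∀ g, ∀ v ∈ L, ρ g v ∈ L) → L = ⊥ ∨ L = ⊤) (g : W) (v : V) : ρ g v = v := by
  obtain ⟨d, hd⟩ := triv_dims h2 hng
  have hcase : d = 0 ∨ finrank k V = 12 := by omega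
  rcases hcase with rfl | h12
  · have htop : Wt ρ (1 : k) 1 = ⊤ := Submodule.eq_top_of_finrank_eq (by rw [hd]; omega)
    have hr : ρ r1 = 1 := by
      ext v
      have h3 : v ∈ Wt ρ (1 : k) 1 := by rw [htop]; trivial
      rw [(mem_Wt.1 h3).1, one_smul]; rfl
    have hn : ρ ng = 1 := by
      ext v
      rw [hng]; rfl
    have hk : ρ.ker = ⊤ := gen_normal inferInstance hn hr
    have h3 : g ∈ ρ.ker := by rw [hk]; trivial
    rw [MonoidHom.mem_ker.1 h3]; rfl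
  · exact (triv_false h2 hng h12 hirr).elim

end Cfsg.Agent.H905.JD
end
end
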