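import Cfsg.Agent.H908.TenSeven_m3
import Cfsg.Agent.H908.Frob8
import Cfsg.Agent.H933.O10.Base_m3
import Cfsg.Agent.S2119
import Cfsg.Agent.H933.Scott
import Cfsg.Agent.H4.JT.Words
import Cfsg.Agent.H1.TJ2
import Cfsg.Agent.H4.JT.Two
import Cfsg.Agent.H906.Cover_m3
import Cfsg.Agent.H871.Par9_m3
import Cfsg.Agent.Lib.FinFast
import Cfsg.Agent.H905.JDMain_mg
import Cfsg.Agent.FastGrp
import Cfsg.Agent.Prune
set_option linter.all false

section
prune_inst 0x7f00000000000000000000000000000000000000000000000000000000000000000000000000000000000000000000000000000000000000000000000000000000000000000000000000000000000000003fffffffffffffffffffffffffffbeffbdffffffff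

-- part: H908/TenTrace
section
set_option linter.all false
open scoped Cfsg.Agent.FastGrp

/-!
# `A₇` in `Ω₁₀(q)`, `q` a power of seven: the traces (helper908)
-/

set_option autoImplicit false
set_option linter.unusedSectionVars false

namespace Cfsg.Agent.H908.Ten

open Cfsg Cfsg.Geo Module Equiv Equiv.Perm
open Matrix hiding mul_apply'
open Cfsg.Agent.H637.JW Cfsg.Agent.H637.SevenA7
open Cfsg.Agent.H908.Lam (fx fx_conj)

universe u

theorem type_one {x : A7} (h : (x : Perm (Fin 7)).cycleType = 0) : x = 1 := Subtype.ext (cycleType_eq_zero.1 h)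

/-- the conjugacy classes of elements of order not seven -/
theorem classes (x : A7) : x = 1 ∨ IsConj a x ∨ IsConj y5 x ∨ (x : Perm (Fin 7)).cycleType = {7} ∨ IsConj s x ∨
    IsConj (a * b) x ∨ IsConj r x ∨ IsConj (c * s) x := by
  rcases Cfsg.Agent.H525.AltK.mem_types (le_refl 7) x with h | h | h | h | h | h | h | h
  · exact Or.inl (type_one h)
  · exact Or.inr (Or.inl (Alt.conj_of_type (κ := swap (3 : Fin 7) 4) (by rw [h]; decide +kernel) (by decide +kernel) (by decide +kernel)))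
  · exact Or.inr (Or.inr (Or.inl (Alt.conj_of_type (κ := swap (5 : Fin 7) 6) (by rw [h]; decide +kernel) (by decide +kernel)
      (by decide +kernel))))
  · exact Or.inr (Or.inr (Or.inr (Or.inl h)))
  · exact Or.inr (Or.inr (Or.inr (Or.inr (Or.inl (Alt.conj_of_type (κ := swap (5 : Fin 7) 6) (by rw [h]; decide +kernel)
      (by decide +kernel) (by decide +kernel))))))
  · exact Or.inr (Or.inr (Or.inr (Or.inr (Or.inr (Or.inl (Alt.conj_of_type (κ := _root_.Equiv.swap (0 : Fin 7) 3 * _root_.Equiv.swap (1 : Fin 7) 4 * swap (2 : Fin 7) 5)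
      (by rw [h]; decide +kernel) (by decide +kernel) (by decide +kernel)))))))
  · exact Or.inr (Or.inr (Or.inr (Or.inr (Or.inr (Or.inr (Or.inl (Alt.conj_of_type (κ := swap (4 : Fin 7) 5)
      (by rw [h]; decide +kernel) (by decide +kernel) (by decide +kernel))))))))
  · exact Or.inr (Or.inr (Or.inr (Or.inr (Or.inr (Or.inr (Or.inr (Alt.conj_of_type (κ := _root_.Equiv.swap (0 : Fin 7) 1)
      (by rw [h]; decide +kernel) (by decide +kernel) (by decide +kernel))))))))

/-- seven-cycles -/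
theorem conj_seven {x : A7} (h : (x : Perm (Fin 7)).cycleType = {7}) : IsConj (y2 : Perm (Fin 7)) x :=
  isConj_iff_cycleType_eq.2 (by rw [h]; decide +kernel)

theorem fx_of_isConj {F : Type*} [Field F] {x y : Perm (Fin 7)} (h : IsConj x y) : fx F x = fx F y := by
  obtain ⟨g, rfl⟩ := isConj_iff.1 h
  exact (fx_conj g x).symm

theorem fx_sq_of_isConj {F : Type*} [Field F] {x y : Perm (Fin 7)} (h : IsConj x y) : fx F (x * x) = fx F (y * y) := by
  obtain ⟨g, rfl⟩ := isConj_iff.1 h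
  have h1 : g * x * g⁻¹ * (g * x * g⁻¹) = g * (x * x) * g⁻¹ := by group
  rw [h1, fx_conj]

theorem isConj_coe {x y : A7} (h : IsConj x y) : IsConj (x : Perm (Fin 7)) (y : Perm (Fin 7)) := by
  obtain ⟨g, rfl⟩ := isConj_iff.1 h
  exact isConj_iff.2 ⟨g, rfl⟩

theorem fx_card {F : Type*} [Field F] (σ : Perm (Fin 7)) {n : ℕ} (h : (Finset.univ.filter fun a => σ a = a).card = n) :
    fx F σ = n := by
  unfold fx
  rw [Finset.sum_boole, h]

theorem a_sq_conj : IsConj a (a ^ 2) := isConj_of_eq (_root_.Cfsg.Agent.H637.SevenA7.mk (_root_.Equiv.swap (0 : Fin 7) 1 * _root_.Equiv.swap (3 : Fin 7) 4)) (by decide +kernel)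
theorem ab_sq_conj : IsConj (a * b) ((a * b) ^ 2) := isConj_of_eq (_root_.Cfsg.Agent.H637.SevenA7.mk (_root_.Equiv.swap (0 : Fin 7) 1 * _root_.Equiv.swap (3 : Fin 7) 4)) (by decide +kernel)
theorem r_two_conj : IsConj s (r ^ 2) := isConj_of_eq (_root_.Cfsg.Agent.H637.SevenA7.mk ((_root_.Equiv.swap (1 : Fin 7) 2 * _root_.Equiv.swap (2 : Fin 7) 3))) (by decide +kernel)
theorem r_three_conj : IsConj r (r ^ 3) := isConj_of_eq (_root_.Cfsg.Agent.H637.SevenA7.mk (_root_.Equiv.swap (1 : Fin 7) 3 * _root_.Equiv.swap (4 : Fin 7) 5)) (by decide +kernel)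
theorem y5_two_conj : IsConj y5 (y5 ^ 2) := isConj_of_eq (_root_.Cfsg.Agent.H637.SevenA7.mk (_root_.Equiv.swap (1 : Fin 7) 3 * _root_.Equiv.swap (3 : Fin 7) 4 * _root_.Equiv.swap (4 : Fin 7) 2 * _root_.Equiv.swap (5 : Fin 7) 6)⁻¹) (by decide +kernel)
theorem y5_four_conj : IsConj (y5 ^ 2) (y5 ^ 4) := isConj_of_eq (_root_.Cfsg.Agent.H637.SevenA7.mk (_root_.Equiv.swap (1 : Fin 7) 3 * _root_.Equiv.swap (3 : Fin 7) 4 * _root_.Equiv.swap (4 : Fin 7) 2 * _root_.Equiv.swap (5 : Fin 7) 6)⁻¹) (by decide +kernel)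
theorem y5_three_conj : IsConj (y5 ^ 4) (y5 ^ 3) := isConj_of_eq (_root_.Cfsg.Agent.H637.SevenA7.mk (_root_.Equiv.swap (1 : Fin 7) 3 * _root_.Equiv.swap (3 : Fin 7) 4 * _root_.Equiv.swap (4 : Fin 7) 2 * _root_.Equiv.swap (5 : Fin 7) 6)⁻¹) (by decide +kernel)
theorem cs_two_conj : IsConj a ((c * s) ^ 2) := isConj_of_eq (_root_.Cfsg.Agent.H637.SevenA7.mk (_root_.Equiv.swap (0 : Fin 7) 4 * (_root_.Equiv.swap (1 : Fin 7) 6 * _root_.Equiv.swap (6 : Fin 7) 2 * _root_.Equiv.swap (2 : Fin 7) 5))) (by decide +kernel)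
theorem cs_five_conj : IsConj (c * s) ((c * s) ^ 5) := isConj_of_eq (_root_.Cfsg.Agent.H637.SevenA7.mk (_root_.Equiv.swap (4 : Fin 7) 5 * _root_.Equiv.swap (0 : Fin 7) 1)) (by decide +kernel)

variable {F : Type u} [Field F]

namespace OT

variable (h : OT F A7)

/-- the trace -/
def χ (x : A7) : F := (h.ρ x : Matrix (Fin 10) (Fin 10) F).trace

theorem χ_conj {x y : A7} (hxy : IsConj x y) : h.χ x = h.χ y := by
  obtain ⟨g, rfl⟩ := isConj_iff.1 hxy
  unfold χ
  rw [map_mul, map_mul, map_inv, Units.val_mul, Units.val_mul, Matrix.trace_mul_comm, ← mul_assoc, ← Units.val_mul,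
    inv_mul_cancel, Units.val_one, one_mul]

theorem χ_one : h.χ 1 = 10 := by
  unfold χ
  rw [map_one, Units.val_one, Matrix.trace_one, Fintype.card_fin]
  norm_num

/-- the traces on the `7'`-classes -/
theorem χ_vals [CharP F 7] : h.χ s = 2 * (h.d s : F) - 10 ∧ 2 * h.χ a = 3 * (h.d a : F) - 10 ∧
    2 * h.χ (a * b) = 3 * (h.d (a * b) : F) - 10 ∧ 2 * h.χ r = 4 * (h.d r : F) - 10 - h.χ s ∧
    4 * h.χ y5 = 5 * (h.d y5 : F) - 10 ∧ 2 * h.χ (c * s) = 6 * (h.d (c * s) : F) - 10 - 2 * h.χ a - h.χ s := by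
  have hc : ∀ n : ℕ, ¬ 7 ∣ n → (n : F) ≠ 0 := by
    intro n hn h0
    exact hn ((CharP.cast_eq_zero_iff F 7 n).1 h0)
  have t2 := h.sum_tr (N := 2) (hc 2 (by norm_num)) (x := s) (by decide +kernel)
  have t3 := h.sum_tr (N := 3) (hc 3 (by norm_num)) (x := a) (by decide +kernel)
  have t33 := h.sum_tr (N := 3) (hc 3 (by norm_num)) (x := a * b) (by decide +kernel)
  have t4 := h.sum_tr (N := 4) (hc 4 (by norm_num)) (x := r) (by decide +kernel)
  have t5 := h.sum_tr (N := 5) (hc 5 (by norm_num)) (x := y5) (by decide +kernel)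
  have t6 := h.sum_tr (N := 6) (hc 6 (by norm_num)) (x := c * s) (by decide +kernel)
  simp only [Finset.sum_range_succ, Finset.sum_range_zero, zero_add] at t2 t3 t33 t4 t5 t6
  change h.χ _ + h.χ _ = _ at t2
  change h.χ _ + h.χ _ + h.χ _ = _ at t3
  change h.χ _ + h.χ _ + h.χ _ = _ at t33
  change h.χ _ + h.χ _ + h.χ _ + h.χ _ = _ at t4
  change h.χ _ + h.χ _ + h.χ _ + h.χ _ + h.χ _ = _ at t5
  change h.χ _ + h.χ _ + h.χ _ + h.χ _ + h.χ _ + h.χ _ = _ at t6
  rw [pow_zero, h.χ_one, pow_one] at t2 t3 t33 t4 t5 t6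
  rw [← h.χ_conj a_sq_conj] at t3
  rw [← h.χ_conj ab_sq_conj] at t33
  rw [← h.χ_conj r_two_conj, ← h.χ_conj r_three_conj] at t4
  rw [← h.χ_conj y5_three_conj, ← h.χ_conj y5_four_conj, ← h.χ_conj y5_two_conj] at t5
  rw [← h.χ_conj cs_two_conj, ← h.χ_conj cs_five_conj, cs3, cs4, ← h.χ_conj cj_c] at t6
  push_cast at t2 t3 t33 t4 t5 t6
  refine ⟨?_, ?_, ?_, ?_, ?_, ?_⟩
  · linear_combination t2
  · linear_combination t3
  · linear_combination t33
  · linear_combination t4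
  · linear_combination t5
  · linear_combination t6

theorem χ_seven [CharP F 7] {x : A7} (hx : (x : Perm (Fin 7)).cycleType = {7}) : h.χ x = 3 := by
  have hF : Fact (Nat.Prime 7) := ⟨by norm_num⟩
  have h7 : (7 : F) = 0 := by
    have := CharP.cast_eq_zero F 7
    exact_mod_cast this
  have h1 : x ^ 7 = 1 := by
    apply Subtype.ext
    have h2 : orderOf (x : Perm (Fin 7)) = 7 := by rw [← lcm_cycleType, hx]; rfl
    have h3 := pow_orderOf_eq_one (x : Perm (Fin 7))
    rw [h2] at h3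
    exact h3
  have h2 : h.χ x ^ 7 = h.χ (x ^ 7) := by
    unfold χ
    rw [map_pow, Units.val_pow_eq_pow_val]
    have := H911.Base.trace_pow_char_pow 7 (h.ρ x : Matrix (Fin 10) (Fin 10) F) 1
    rw [pow_one] at this
    exact this.symm
  rw [h1, h.χ_one] at h2
  apply frobenius_inj F 7
  rw [frobenius_def, frobenius_def, h2]
  linear_combination (-311 : F) * h7

/-- **Case A**: the traces are those of `Λ²` of the heart. -/
theorem trace_A [CharP F 7] (hd : h.d s = 4 ∧ h.d a = 4 ∧ h.d (a * b) = 4 ∧ h.d r = 2 ∧ h.d y5 = 2 ∧ h.d (c * s) = 2) (x : A7) :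
    2 * h.χ x = (fx F (x : Perm (Fin 7)) - 2) ^ 2 - (fx F ((x : Perm (Fin 7)) * (x : Perm (Fin 7))) - 2) := by
  obtain ⟨e1, e2, e3, e4, e5, e6⟩ := hd
  obtain ⟨f1, f2, f3, f4, f5, f6⟩ := h.χ_vals
  rw [e1] at f1
  rw [e2] at f2
  rw [e3] at f3
  rw [e4] at f4
  rw [e5] at f5
  rw [e6] at f6
  push_cast at f1 f2 f3 f4 f5 f6
  have h7 : (7 : F) = 0 := by
    have := CharP.cast_eq_zero F 7
    exact_mod_cast this
  rcases classes x with rfl | hx | hx | hx | hx | hx | hx | hx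
  · rw [h.χ_one, fx_card (n := 7) _ (by decide +kernel), fx_card (n := 7) _ (by decide +kernel)]
    push_cast
    ring
  · rw [← h.χ_conj hx, ← fx_of_isConj (isConj_coe hx), ← fx_sq_of_isConj (isConj_coe hx),
      fx_card (n := 4) _ (by decide +kernel), fx_card (n := 4) _ (by decide +kernel)]
    push_cast
    linear_combination f2
  · rw [← h.χ_conj hx, ← fx_of_isConj (isConj_coe hx), ← fx_sq_of_isConj (isConj_coe hx),
      fx_card (n := 2) _ (by decide +kernel), fx_card (n := 2) _ (by decide +kernel)]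
    push_cast
    have h4 : (4 : F) ≠ 0 := by
      intro h4
      exact one_ne_zero (α := F) (by linear_combination 2 * h4 - h7)
    have h5 : h.χ y5 = 0 := by
      have h6 : 4 * h.χ y5 = 0 := by linear_combination f5
      exact (mul_eq_zero.1 h6).resolve_left h4
    rw [h5]
    ring
  · rw [h.χ_seven hx, ← fx_of_isConj (conj_seven hx), ← fx_sq_of_isConj (conj_seven hx),
      fx_card (n := 0) _ (by decide +kernel), fx_card (n := 0) _ (by decide +kernel)]
    push_cast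
    ring
  · rw [← h.χ_conj hx, ← fx_of_isConj (isConj_coe hx), ← fx_sq_of_isConj (isConj_coe hx),
      fx_card (n := 3) _ (by decide +kernel), fx_card (n := 7) _ (by decide +kernel)]
    push_cast
    linear_combination 2 * f1
  · rw [← h.χ_conj hx, ← fx_of_isConj (isConj_coe hx), ← fx_sq_of_isConj (isConj_coe hx),
      fx_card (n := 1) _ (by decide +kernel), fx_card (n := 1) _ (by decide +kernel)]
    push_cast
    linear_combination f3
  · rw [← h.χ_conj hx, ← fx_of_isConj (isConj_coe hx), ← fx_sq_of_isConj (isConj_coe hx),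
      fx_card (n := 1) _ (by decide +kernel), fx_card (n := 3) _ (by decide +kernel)]
    push_cast
    linear_combination f4 - f1
  · rw [← h.χ_conj hx, ← fx_of_isConj (isConj_coe hx), ← fx_sq_of_isConj (isConj_coe hx),
      fx_card (n := 0) _ (by decide +kernel), fx_card (n := 4) _ (by decide +kernel)]
    push_cast
    linear_combination f6 - f2 - f1

/-- **Case C**: the traces are those of twice the heart. -/
theorem trace_C [CharP F 7] (hd : h.d s = 6 ∧ h.d a = 6 ∧ h.d (a * b) = 2 ∧ h.d r = 2 ∧ h.d y5 = 2 ∧ h.d (c * s) = 2) (x : A7) :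
    h.χ x = 2 * (fx F (x : Perm (Fin 7)) - 2) := by
  obtain ⟨e1, e2, e3, e4, e5, e6⟩ := hd
  obtain ⟨f1, f2, f3, f4, f5, f6⟩ := h.χ_vals
  rw [e1] at f1
  rw [e2] at f2
  rw [e3] at f3
  rw [e4] at f4
  rw [e5] at f5
  rw [e6] at f6
  push_cast at f1 f2 f3 f4 f5 f6
  have h7 : (7 : F) = 0 := by
    have := CharP.cast_eq_zero F 7
    exact_mod_cast this
  have h2 : (2 : F) ≠ 0 := by
    intro h2
    exact one_ne_zero (α := F) (by linear_combination h7 - 3 * h2)
  have h4 : (4 : F) ≠ 0 := by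
    intro h4
    exact one_ne_zero (α := F) (by linear_combination 2 * h4 - h7)
  rcases classes x with rfl | hx | hx | hx | hx | hx | hx | hx
  · rw [h.χ_one, fx_card (n := 7) _ (by decide +kernel)]
    push_cast
    ring
  · rw [← h.χ_conj hx, ← fx_of_isConj (isConj_coe hx), fx_card (n := 4) _ (by decide +kernel)]
    push_cast
    apply mul_left_cancel₀ h2
    linear_combination f2
  · rw [← h.χ_conj hx, ← fx_of_isConj (isConj_coe hx), fx_card (n := 2) _ (by decide +kernel)]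
    push_cast
    apply mul_left_cancel₀ h4
    linear_combination f5
  · rw [h.χ_seven hx, ← fx_of_isConj (conj_seven hx), fx_card (n := 0) _ (by decide +kernel)]
    push_cast
    linear_combination h7
  · rw [← h.χ_conj hx, ← fx_of_isConj (isConj_coe hx), fx_card (n := 3) _ (by decide +kernel)]
    push_cast
    linear_combination f1
  · rw [← h.χ_conj hx, ← fx_of_isConj (isConj_coe hx), fx_card (n := 1) _ (by decide +kernel)]
    push_cast
    apply mul_left_cancel₀ h2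
    linear_combination f3
  · rw [← h.χ_conj hx, ← fx_of_isConj (isConj_coe hx), fx_card (n := 1) _ (by decide +kernel)]
    push_cast
    apply mul_left_cancel₀ h2
    linear_combination f4 - f1
  · rw [← h.χ_conj hx, ← fx_of_isConj (isConj_coe hx), fx_card (n := 0) _ (by decide +kernel)]
    push_cast
    apply mul_left_cancel₀ h2
    linear_combination f6 - f2 - f1

/-- two equal diagonal blocks -/
noncomputable def dg : Matrix (Fin 5) (Fin 5) F →* Matrix (Fin 10) (Fin 10) F where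
  toFun M := Matrix.reindexAlgEquiv F F (finSumFinEquiv : Fin 5 ⊕ Fin 5 ≃ Fin 10) (Matrix.fromBlocks M 0 0 M)
  map_one' := by rw [Matrix.fromBlocks_one, map_one]
  map_mul' M N := by
    rw [← map_mul, Matrix.fromBlocks_multiply]
    simp

theorem dg_trace (M : Matrix (Fin 5) (Fin 5) F) : (dg M).trace = 2 * M.trace := by
  change (Matrix.reindex (finSumFinEquiv : Fin 5 ⊕ Fin 5 ≃ Fin 10) finSumFinEquiv (Matrix.fromBlocks M 0 0 M)).trace = _
  rw [Matrix.trace, ← Equiv.sum_comp (finSumFinEquiv : Fin 5 ⊕ Fin 5 ≃ Fin 10)]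
  simp only [Matrix.diag_apply, Matrix.trace, two_mul, _root_.Nat.reduceAdd, _root_.Matrix.reindex_apply, _root_.Matrix.submatrix_apply, _root_.Equiv.symm_apply_apply, _root_.Fintype.sum_sum_type, _root_.Matrix.fromBlocks_apply₁₁, _root_.Matrix.fromBlocks_apply₂₂]

theorem dg_zero (M : Matrix (Fin 5) (Fin 5) F) : dg M 0 5 = 0 := by
  change Matrix.fromBlocks M 0 0 M ((finSumFinEquiv : Fin 5 ⊕ Fin 5 ≃ Fin 10).symm 0)
    ((finSumFinEquiv : Fin 5 ⊕ Fin 5 ≃ Fin 10).symm 5) = 0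
  have h1 : (finSumFinEquiv : Fin 5 ⊕ Fin 5 ≃ Fin 10).symm 0 = Sum.inl 0 := by decide
  have h2 : (finSumFinEquiv : Fin 5 ⊕ Fin 5 ≃ Fin 10).symm 5 = Sum.inr 0 := by decide
  rw [h1, h2]
  rfl

/-- **Case C is impossible.** -/
theorem not_C (h7 : (7 : F) = 0) (hx : ∀ x : A7, h.χ x = 2 * (fx F (x : Perm (Fin 7)) - 2)) : False := by
  let ρ₁ : A7 →* Matrix (Fin 10) (Fin 10) F := (Units.coeHom _).comp h.ρ
  let ρ₂ : A7 →* Matrix (Fin 10) (Fin 10) F := (dg.comp (Units.coeHom _)).comp ((Lam.ψ7 h7).comp (alternatingGroup (Fin 7)).subtype)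
  have h1 : Submodule.span F (Set.range ρ₁) = ⊤ := by
    rw [← H920.span_eq_top h.irr]
    congr 1
    ext M
    constructor
    · rintro ⟨g, rfl⟩
      exact ⟨h.ρ g, ⟨g, rfl⟩, rfl⟩
    · rintro ⟨_, ⟨g, rfl⟩, rfl⟩
      exact ⟨g, rfl⟩
  have h2 := Lam.span_of_trace ρ₁ ρ₂ h1 (fun g => by
    change h.χ g = (dg ((Lam.ψ7 h7 (g : Perm (Fin 7)) : GL (Fin 5) F) : Matrix (Fin 5) (Fin 5) F)).trace
    rw [dg_trace, Lam.ψ7_trace, hx])
  have h3 : (Matrix.single 0 5 (1 : F) : Matrix (Fin 10) (Fin 10) F) ∈ Submodule.span F (Set.range ρ₂) := by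
    rw [h2]; trivial
  have h4 : ∀ M ∈ Submodule.span F (Set.range ρ₂), M 0 5 = 0 := by
    intro M hM
    induction hM using Submodule.span_induction with
    | mem M hM =>
      obtain ⟨g, rfl⟩ := hM
      exact dg_zero ((Lam.ψ7 h7 (g : Perm (Fin 7)) : GL (Fin 5) F) : Matrix (Fin 5) (Fin 5) F)
    | zero => rfl
    | add M N _ _ hM hN => rw [Matrix.add_apply, hM, hN, add_zero]
    | smul c M _ hM => rw [Matrix.smul_apply, hM, smul_zero]
  have h5 := h4 _ h3
  rw [Matrix.single_apply_same] at h5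
  exact one_ne_zero h5

/-- **The traces.** -/
theorem trace_formula [CharP F 7] (x : A7) :
    2 * h.χ x = (fx F (x : Perm (Fin 7)) - 2) ^ 2 - (fx F ((x : Perm (Fin 7)) * (x : Perm (Fin 7))) - 2) := by
  rcases h.dims with hd | hd
  · exact h.trace_A hd x
  · have h7 : (7 : F) = 0 := by
      have := CharP.cast_eq_zero F 7
      exact_mod_cast this
    exact (h.not_C h7 (h.trace_C hd)).elim

end OT

end Cfsg.Agent.H908.Ten
end

-- part: H908/TenTrace_mg
section

end

-- part: H908/TenA7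
section
set_option linter.all false
open scoped Cfsg.Agent.FastGrp

/-!
# `A₇` is never the socle of a residual core in `Ω₁₀(q)` (helper908)
-/

set_option autoImplicit false
set_option linter.unusedSectionVars false

namespace Cfsg.Agent.H908.Ten

open Cfsg Cfsg.Geo Module Equiv Equiv.Perm
open Matrix hiding mul_apply'
open Cfsg.Agent.H637.JW Cfsg.Agent.H637.SevenA7 Cfsg.Agent.H933.O10 Cfsg.Agent.H915.LD
open scoped commutatorElement

universe u

variable {F : Type u} [Field F] {p : ℕ} {Q : (Fin 10 → F) → F} {H P : Subgroup (GL (Fin 10) F)}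

/-- the core itself -/
def ofCx (hX : Cx p Q H P) : OT F P where
  ρ := P.subtype
  Q := Q
  nd := hX.hQ
  mem := fun g => hX.le_omega g.2
  irr := by rw [Subgroup.range_subtype]; exact hX.hc.absIrred
  inj := Subtype.val_injective

theorem s_not_mem : s ∉ Subgroup.zpowers r := by
  intro hm
  obtain ⟨k, hk⟩ := Subgroup.mem_zpowers_iff.1 hm
  have h1 : s * r = r * s := by rw [← hk]; group
  exact absurd h1 (by decide +kernel)

/-- **The centre of the core is trivial.** -/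
theorem injective_of_A7 [Finite F] (hX : Cx p Q H P) (e : Soc P ≃* A7) :
    Function.Injective (e.toMonoidHom.comp (toSoc P)) := by
  classical
  have hfin : Finite P := inferInstance
  set f : P →* A7 := e.toMonoidHom.comp (toSoc P) with hf
  have hsurj : Function.Surjective f := e.surjective.comp (toSoc_surjective P)
  have hkc : f.ker ≤ Subgroup.center P := by
    rw [hf, ker_comp]; exact scalars_le_center
  have hcen : ∀ {k : P}, f k = 1 → ∀ x, x * k = k * x := fun {k} hk x =>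
    Subgroup.mem_center_iff.1 (hkc ((MonoidHom.mem_ker).2 hk)) x
  have hsc : ∀ k : P, f k = 1 → (k : GL (Fin 10) F) = 1 ∨
      ((k : GL (Fin 10) F) : Matrix (Fin 10) (Fin 10) F) = -1 := by
    intro k hk
    have h1 : k ∈ f.ker := hk
    rw [hf, ker_comp, Subgroup.mem_subgroupOf, mem_scalars_iff] at h1
    obtain ⟨c, hc⟩ := h1
    have h2 := hX.scalar_sq k.2 hc
    rcases mul_self_eq_one_iff.1 (show (c : F) * c = 1 by rw [← pow_two, h2]) with h3 | h3
    · left
      apply Units.ext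
      rw [hc, h3, one_smul]; rfl
    · right
      rw [hc, h3, neg_one_smul]
  rw [injective_iff_map_eq_one]
  by_contra hcon
  push Not at hcon
  obtain ⟨z, hz, hz1⟩ := hcon
  have hzm : ((z : GL (Fin 10) F) : Matrix (Fin 10) (Fin 10) F) = -1 := by
    rcases hsc z hz with h1 | h1
    · exact absurd (Subtype.ext h1) hz1
    · exact h1
  have h2 : (2 : F) ≠ 0 := by
    intro h0
    apply hz1
    apply Subtype.ext
    apply Units.ext
    rw [hzm]
    ext i j
    have : (-1 : F) = 1 := by linear_combination -h0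
    rw [Matrix.neg_apply, ← neg_one_mul, this, one_mul]
    rfl
  have hker : ∀ k : P, f k = 1 → k = 1 ∨ k = z := by
    intro k hk
    rcases hsc k hk with h1 | h1
    · exact Or.inl (Subtype.ext h1)
    · exact Or.inr (Subtype.ext (Units.ext (by rw [h1, hzm])))
  have hzz : z * z = 1 := by
    apply Subtype.ext
    apply Units.ext
    change ((z : GL (Fin 10) F) : Matrix (Fin 10) (Fin 10) F) * ((z : GL (Fin 10) F) : Matrix (Fin 10) (Fin 10) F) = 1
    rw [hzm, neg_mul_neg, one_mul]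
  have hksq : ∀ k : P, f k = 1 → k * k = 1 := by
    intro k hk
    rcases hker k hk with rfl | rfl
    · exact one_mul 1
    · exact hzz
  have hp2 : IsPGroup 2 f.ker := fun k => ⟨1, Subtype.ext (by
    rw [pow_one, pow_two]
    exact hksq k.1 k.2)⟩
  -- the dihedral group
  obtain ⟨D, hD, hidx, hrD, hsD, hgen⟩ := H908.exists_dih (T := A7) Alt.card_A7 (by decide) (a := r) (b := s)
    (by decide +kernel) (by decide +kernel) s_not_mem (by decide +kernel) (by decide +kernel)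
  obtain ⟨R, hR⟩ := hsurj r
  obtain ⟨S, hS⟩ := hsurj s
  have hcomm := H908.ker_of_dihedral (Y := P) hX.core.commutator_top (f := f) hsurj hkc hp2 hD hidx (a := R) (b := S)
    (by rw [hR]; exact hrD) (by rw [hS]; exact hsD) (by rw [hR, hS]; exact hgen) (by rw [hR]; decide +kernel)
    (by rw [hR]; decide +kernel) (by rw [hR, hS]; decide +kernel) hz
  have hzc : z = ⁅S, R ^ 2⁆ := hcomm.resolve_left hz1
  set X : P := R ^ 2 with hXd
  have hfX : f X = t := by rw [hXd, map_pow, hR, pow_two, r_sq]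
  have hSX : S * X = z * (X * S) := by rw [hzc, commutatorElement_def]; group
  have hzcen := hcen hz
  -- squares
  have hsq : ∀ u w : P, f (u * u) = 1 → IsConj (f u) (f w) → w * w = u * u := by
    intro u w hu hc
    obtain ⟨g, hg⟩ := isConj_iff.1 hc
    obtain ⟨g, rfl⟩ := hsurj g
    have hk : f (w * (g * u * g⁻¹)⁻¹) = 1 := by
      rw [map_mul, map_inv, map_mul, map_mul, map_inv, hg, mul_inv_cancel]
    obtain ⟨k, hkd⟩ : ∃ k, k = w * (g * u * g⁻¹)⁻¹ := ⟨_, rfl⟩
    rw [← hkd] at hk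
    have hw : w = k * (g * u * g⁻¹) := by rw [hkd]; group
    have hk2 := hksq k hk
    have hkx := hcen hk
    calc w * w = k * ((g * u * g⁻¹) * k) * (g * u * g⁻¹) := by rw [hw]; group
      _ = k * (k * (g * u * g⁻¹)) * (g * u * g⁻¹) := by rw [hkx]
      _ = (k * k) * (g * (u * u) * g⁻¹) := by group
      _ = u * u := by rw [hk2, one_mul, hcen hu, mul_inv_cancel_right]
  have hSS : f (S * S) = 1 := by rw [map_mul, hS, s_sq]
  have h3 : X * X = S * S := hsq S X hSS (by rw [hS, hfX]; exact cj_t)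
  have h4 : (S * X) * (S * X) = S * S := hsq S (S * X) hSS (by rw [hS, map_mul, hS, hfX]; exact cj_s_t)
  have h5 : S * S = z := by
    have h6 : X * S = z * (S * X) := by
      rw [hSX, ← mul_assoc, hzz, one_mul]
    calc S * S = (S * X) * (S * X) := h4.symm
      _ = S * (X * S) * X := by group
      _ = S * (z * (S * X)) * X := by rw [h6]
      _ = z * ((S * S) * (X * X)) := by rw [← mul_assoc S z, hzcen S]; group
      _ = z * ((S * S) * (S * S)) := by rw [h3]
      _ = z := by rw [hksq _ hSS, mul_one]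
  have hneg : ∀ v, (ofCx hX).σ z v = -v := by
    intro v
    rw [OT.σ_apply]
    change (algebraMap F (AlgebraicClosure F)).mapMatrix ((z : GL (Fin 10) F) : Matrix (Fin 10) (Fin 10) F) *ᵥ v = -v
    rw [hzm, map_neg, map_one, Matrix.neg_mulVec, Matrix.one_mulVec]
  refine (ofCx hX).no_quat h2 (x := S) (y := X) (fun v => ?_) (fun v => ?_) (fun v => ?_)
  · rw [← mul_apply', h5, hneg]
  · rw [← mul_apply', h3, h5, hneg]
  · rw [← mul_apply', hSX, mul_apply', hneg, mul_apply']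

/-- **`A₇` is never the socle of a residual core in dimension ten.** -/
theorem o10_a7 [Finite F] (hX : Cx p Q H P) (e : Soc P ≃* alternatingGroup (Fin 7)) : False := by
  classical
  have hinj := injective_of_A7 hX e
  have hsurj : Function.Surjective (e.toMonoidHom.comp (toSoc P)) := e.surjective.comp (toSoc_surjective P)
  let E : P ≃* A7 := MulEquiv.ofBijective (e.toMonoidHom.comp (toSoc P)) ⟨hinj, hsurj⟩
  let h : OT F A7 := (ofCx hX).congr E.symm
  have h7 := h.seven_eq_zero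
  have hcp := hX.char
  have hp : p = 7 := by
    have h1 : ((7 : ℕ) : F) = 0 := by exact_mod_cast h7
    rw [CharP.cast_eq_zero_iff F p] at h1
    exact (Nat.prime_dvd_prime_iff_eq hX.prime (by norm_num)).1 h1
  subst hp
  have h2 : (2 : F) ≠ 0 := by
    intro h2
    exact one_ne_zero (α := F) (by linear_combination h7 - 3 * h2)
  have h3 : (3 : F) ≠ 0 := by
    intro h3
    exact one_ne_zero (α := F) (by linear_combination h7 - 2 * h3)
  have hχ : ∀ x : P, h.χ (E x) = H915.LD.tr (x : GL (Fin 10) F) := by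
    intro x
    change ((ofCx hX).ρ (E.symm (E x)) : Matrix (Fin 10) (Fin 10) F).trace = _
    rw [E.symm_apply_apply]
    rfl
  let ψ : P →* GL (Fin 5) F := ((Lam.ψ7 h7).comp (alternatingGroup (Fin 7)).subtype).comp E.toMonoidHom
  have hψ : ∀ x : P, ψ x = Lam.ψ7 h7 ((E x : A7) : Perm (Fin 7)) := fun _ => rfl
  refine Lam.lam_false h2 h3 hX.hQ hX.hH hX.hc ψ (fun x => ?_) (fun x => Lam.ψ7_mem h7 _) (fun k hk => ?_)
  · rw [← hχ, h.trace_formula, ← map_mul, hψ, hψ, H915.LD.tr, H915.LD.tr, Lam.ψ7_trace, Lam.ψ7_trace, map_mul]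
    rfl
  · -- the automorphism of `A₇` induced by `k`
    let α : P ≃* P :=
      { toFun := fun x => ⟨k * x * k⁻¹, hX.hc.normal k hk x x.2⟩
        invFun := fun x => ⟨k⁻¹ * x * k, by
          have := hX.hc.normal k⁻¹ (inv_mem hk) x x.2
          rwa [inv_inv] at this⟩
        left_inv := fun x => Subtype.ext (by
          change k⁻¹ * (k * (x : GL (Fin 10) F) * k⁻¹) * k = x
          group)
        right_inv := fun x => Subtype.ext (by
          change k * (k⁻¹ * (x : GL (Fin 10) F) * k) * k⁻¹ = x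
          group)
        map_mul' := fun x y => Subtype.ext (by
          change k * ((x : GL (Fin 10) F) * y) * k⁻¹ = k * x * k⁻¹ * (k * y * k⁻¹)
          group) }
    obtain ⟨σ, hσ⟩ := (S2119.result 7 (by norm_num) (by norm_num)).2 (E.symm.trans (α.trans E))
    refine ⟨Lam.ψ7 h7 σ, Lam.ψ7_mem h7 σ, fun x y hxy => ?_⟩
    have h4 : α x = y := Subtype.ext hxy.symm
    have h5 : E y = (MulAut.conjNormal σ : MulAut A7) (E x) := by
      rw [hσ]
      change E y = E (α (E.symm (E x)))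
      rw [E.symm_apply_apply, h4]
    have h6 : ((E y : A7) : Perm (Fin 7)) = σ * ((E x : A7) : Perm (Fin 7)) * σ⁻¹ := by
      rw [h5, MulAut.conjNormal_apply]
    rw [hψ, hψ, h6, map_mul, map_mul, map_inv]

end Cfsg.Agent.H908.Ten
end

-- part: H933/JTwoTen
section
set_option linter.all false
open scoped Cfsg.Agent.FastGrp

/-!
# The Hall-Janko group in dimension ten (helper933)

* `rep_false` : no irreducible injective representation of degree 9, 10, 11 in characteristic 2 (Scott's lemma);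
* `o10_j2` : `J₂` is never the socle of a residual core in `Ω₁₀^±(q)`.
-/

set_option autoImplicit false
set_option linter.unusedSectionVars false
set_option maxRecDepth 100000

namespace Cfsg.Agent.H933.JTwoTen

open Module Subgroup Cfsg.Agent.H933.Scott
open Cfsg.Agent.J2.HundredGens Cfsg.Agent.H4.JT.Words

universe u v w

abbrev G0 : Type := ↥(Cfsg.Agent.SporadicA.J2Hundred.G)

abbrev wx : List ℕ := [3]
abbrev wy : List ℕ := [0, 1, 2, 3, 4, 3, 2, 1, 0, 1, 3, 2, 3]
abbrev wt : List ℕ := [1, 0, 4, 3, 2, 1, 0, 1, 3, 2, 1, 4, 3, 2, 1, 3, 2, 4, 3]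
abbrev ws : List ℕ := [1, 3, 4, 3, 2, 1, 3, 2, 1, 0, 1, 2, 3, 2, 3]
abbrev wr : List ℕ := [3, 2, 1, 0, 1, 2, 3, 4, 3, 2, 3, 2, 1, 0, 4]

theorem gp (L : List ℕ) (n : ℕ) : (gw L) ^ n = gw (List.replicate n L).flatten := by
  induction n with
  | zero => rw [pow_zero, ← g1]; rfl
  | succ n ih => rw [pow_succ', ih, gm, List.replicate_succ, List.flatten_cons]

theorem x_sq : gw wx * gw wx = 1 := by rw [gm, ← g1]; exact ge (by decide +kernel)
theorem y_cu : (gw wy) ^ 3 = 1 := by rw [gp, ← g1]; exact ge (by decide +kernel)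
theorem z_pow : (gw wx * gw wy) ^ 7 = 1 := by rw [gm, gp, ← g1]; exact ge (by decide +kernel)
theorem z_conj : gw wt * (gw wx * gw wy) = (gw wx * gw wy) ^ 3 * gw wt := by
  rw [gm, gm, gp, gm]; exact ge (by decide +kernel)
theorem s_pow : (gw ws) ^ 7 = 1 := by rw [gp, ← g1]; exact ge (by decide +kernel)
theorem s_y : gw wy * gw ws = (gw ws) ^ 2 * gw wy := by rw [gm, gp, gm]; exact ge (by decide +kernel)
theorem s_t : gw wr * gw ws = (gw ws) ^ 3 * gw wr := by rw [gm, gp, gm]; exact ge (by decide +kernel)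

theorem s_ne : gw ws ≠ 1 := by
  intro h
  have h1 : pw ws = 1 := congrArg Subtype.val h
  have h2 := pw_val ws 0
  rw [h1] at h2
  revert h2
  decide +kernel

/-! ### Generation -/

/-- letters `x`, `y`, `y⁻¹` -/
def lt (k : ℕ) : List ℕ := match k with
  | 0 => wx
  | 1 => wy
  | _ => wy.reverse

theorem lt_mem (k : ℕ) : gw (lt k) ∈ Subgroup.closure {gw wx, gw wy} := by
  match k with
  | 0 => exact Subgroup.subset_closure (Or.inl rfl)
  | 1 => exact Subgroup.subset_closure (Or.inr rfl)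
  | (_ + 2) =>
    change gw wy.reverse ∈ _
    rw [H1.J2Cover.gw_reverse]
    exact inv_mem (Subgroup.subset_closure (Or.inr rfl))

theorem word_mem (L : List ℕ) : gw (L.flatMap lt) ∈ Subgroup.closure {gw wx, gw wy} := by
  induction L with
  | nil => rw [List.flatMap_nil, g1]; exact one_mem _
  | cons k L ih => rw [List.flatMap_cons, ← gm]; exact mul_mem (lt_mem k) ih

theorem of_word {k : ℕ} (L : List ℕ) (h : chk [k] (L.flatMap lt) = true) :
    gw [k] ∈ Subgroup.closure {gw wx, gw wy} := by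
  rw [ge h]; exact word_mem L

theorem gen : Subgroup.closure {gw wx, gw wy} = (⊤ : Subgroup G0) := by
  refine gen_eq fun k hk => ?_
  match k, hk with
  | 0, _ => exact of_word [1, 0, 2, 0, 1, 0, 1, 0, 2, 0, 1, 0, 2, 0, 1, 0, 2, 0, 2, 0, 1, 0, 2, 0, 1, 0, 2, 0, 2, 0, 1, 0, 2,
      0, 2, 0, 1, 0, 2, 0, 1, 0, 2, 0, 2, 0, 1] (by decide +kernel)
  | 1, _ => exact of_word [1, 0, 1, 0, 2, 0, 2, 0, 1, 0, 1, 0, 2, 0, 2, 0, 1, 0, 1, 0, 2, 0, 1, 0, 2, 0, 1, 0, 2, 0, 1, 0, 1,
      0, 2, 0, 1, 0, 2, 0, 1, 0, 1, 0, 2, 0, 2] (by decide +kernel)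
  | 2, _ => exact of_word [0, 1, 0, 1, 0, 2, 0, 1, 0, 1, 0, 2, 0, 1, 0, 2, 0, 2, 0, 1, 0, 1, 0, 2, 0, 1, 0, 2, 0, 1, 0, 1, 0,
      2, 0, 2, 0, 1, 0, 2, 0, 2, 0, 1, 0, 2, 0, 1, 0, 2, 0, 2, 0] (by decide +kernel)
  | 3, _ => exact of_word [0] (by decide +kernel)
  | 4, _ => exact of_word [1, 0, 2, 0, 1, 0, 1, 0, 2, 0, 1, 0, 2, 0, 1, 0, 2, 0, 2, 0, 1, 0, 2, 0, 1, 0, 2, 0, 1, 0, 1, 0, 2,
      0, 2, 0, 1, 0, 1, 0, 2, 0, 1, 0, 2, 0, 1, 0, 1, 0, 1] (by decide +kernel)
  | (_ + 5), h => omega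

/-! ### Characteristic 2 -/

variable {K : Type u} [Field K] [IsAlgClosed K] {V : Type v} [AddCommGroup V] [Module K V] [FiniteDimensional K V]

theorem rep_false (h2 : (2 : K) = 0) (ρ : G0 →* Module.End K V)
    (hirr : ∀ W : Submodule K V, (∀ g : G0, ∀ w ∈ W, ρ g w ∈ W) → W = ⊥ ∨ W = ⊤) (hinj : Function.Injective ρ)
    (h9 : 9 ≤ finrank K V) (h11 : finrank K V ≤ 11) : False := by
  have ne1 : ∀ {g : G0}, g ≠ 1 → ρ g ≠ 1 := fun hg h => hg (hinj (by rw [h, map_one]))
  have h7 : (7 : K) ≠ 0 := by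
    intro h
    have : (1 : K) = 7 - 3 * 2 := by norm_num
    rw [h, h2] at this
    norm_num at this
  have hx := fx_of_sq ρ h2 x_sq
  have : NeZero ((7 : ℕ) : K) := ⟨by exact_mod_cast h7⟩
  obtain ⟨ζ, hζ⟩ := (HasEnoughRootsOfUnity.exists_primitiveRoot K 7)
  have hz := fx_seven ρ h7 z_pow z_conj h11
  have hy := fx_three ρ (r := 7) (k := 2) (l := 4) (k' := 3) (l' := 5) (by norm_num) hζ s_pow (ne1 s_ne) y_cu
    s_y (by norm_num) s_t (by norm_num) (by decide)
  have hs := scott_irr ρ hirr gen ⟨_, ne1 s_ne⟩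
  omega

section core

open Matrix Cfsg Cfsg.Geo Cfsg.Agent.H915.LD Cfsg.Spor Cfsg.Agent.H1 Cfsg.Agent.J2.SixGens Cfsg.Agent.J2.Group
  Cfsg.Agent.J2.ZTau Cfsg.Agent.J2.Ico Cfsg.Agent.J2.Lattice Cfsg.Agent.J2.Refl Cfsg.Agent.J2.Stab Cfsg.Agent.H1.J2Lift

variable {F : Type u} [Field F] {ι : Type} [Fintype ι] [DecidableEq ι] {P : Subgroup (GL ι F)}

theorem sc_bot (e : Soc P ≃* J2) {φ : W →* P} (hs : Function.Surjective φ) (hp : ∀ z, RealCover.pj P e (φ z) = pr z)
    (h1 : φ ng = 1) : (scalars ι F).subgroupOf P = ⊥ := by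
  rw [Subgroup.eq_bot_iff_forall]
  intro g hg
  obtain ⟨w, rfl⟩ := hs g
  rw [← RealCover.ker_pj e, MonoidHom.mem_ker, hp] at hg
  have h2 : w ∈ center W := by rw [← Cfsg.Agent.S2040.ker_pr]; exact hg
  rcases mem_center h2 with rfl | rfl
  · exact map_one φ
  · exact h1

theorem equiv_of_bot (e : Soc P ≃* J2) (h : (scalars ι F).subgroupOf P = ⊥) : Nonempty (P ≃* J2) := by
  have h2 : Function.Injective (e.toMonoidHom.comp (toSoc P)) := by
    rw [← MonoidHom.ker_eq_bot_iff]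
    exact (ker_comp e).trans h
  exact ⟨MulEquiv.ofBijective _ ⟨h2, e.surjective.comp (toSoc_surjective P)⟩⟩

/-- **`J₂` in characteristic 2, degree 9, 10, 11.** -/
theorem j2_two (hC : Core P) (h2 : (2 : F) = 0) (e : Soc P ≃* J2) (h9 : 9 ≤ Fintype.card ι)
    (h11 : Fintype.card ι ≤ 11) : False := by
  have : Nonempty ι := hC.nonempty
  obtain ⟨φ, hs, hp⟩ := TJ2.exists_cover hC e
  have h1 : φ ng = 1 := by
    have key : (((φ ng : P) : GL ι F) : Matrix ι ι F) = 1 := by
      rcases TJ2.ng_image e hp with h | h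
      · exact h
      · rw [h]
        have h3 : (1 : F) + 1 = 0 := by rw [one_add_one_eq_two, h2]
        rw [neg_eq_iff_add_eq_zero]
        ext i j
        rw [Matrix.add_apply, Matrix.zero_apply, Matrix.one_apply]
        split_ifs
        · exact h3
        · exact add_zero 0
    exact Subtype.ext (Units.ext key)
  obtain ⟨e1⟩ := equiv_of_bot e (sc_bot e hs hp h1)
  obtain ⟨e2⟩ := H921.Spor.J2.exists_iso
  let E : P ≃* G0 := e1.trans e2
  let ρ : G0 →* Module.End (AlgebraicClosure F) (ι → AlgebraicClosure F) := (H911.Five.rep P).comp E.symm.toMonoidHom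
  have h2' : (2 : AlgebraicClosure F) = 0 := by
    rw [← map_ofNat (algebraMap F (AlgebraicClosure F)) 2, h2, map_zero]
  refine rep_false h2' ρ ?_ ?_ (by rw [finrank_fintype_fun_eq_card]; exact h9) (by rw [finrank_fintype_fun_eq_card]; exact h11)
  · intro W hW
    refine H911.Five.rep_irr hC.absIrred W fun g w hw => ?_
    have := hW (E g) w hw
    simpa [ρ] using this
  · exact (H911.Five.rep_injective P).comp E.symm.injective

/-! ### Odd characteristic -/

abbrev a1 : List ℕ := [3]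
abbrev a2 : List ℕ := [2, 1, 0, 1, 0, 4, 3, 2, 1, 3, 2, 3, 4, 3, 2, 1, 0, 3, 2, 1, 0, 1, 3, 2, 4]

theorem rootsB_app {L M : List Vec} (h : rootsB L = true) (h' : rootsB M = true) : rootsB (L ++ M) = true := by
  unfold rootsB at *; rw [List.all_append, h, h']; rfl

theorem rt1 : rootsB (W5 a1) = true := by decide +kernel
theorem rt2 : rootsB (W5 a2) = true := by decide +kernel

theorem q1 : wd (W5 a1) * wd (W5 a1) = ng := by
  have h : wd (W5 a1 ++ W5 a1) = ng * wd [] := wd_eqN (J2Words.chkN_j2fq (by rw [rootsB_app rt1 rt1]; rfl) (by decide +kernel))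
  rwa [wd_append, wd_nil, mul_one] at h

theorem q2 : wd (W5 a2) * wd (W5 a2) = ng := by
  have h : wd (W5 a2 ++ W5 a2) = ng * wd [] := wd_eqN (J2Words.chkN_j2fq (by rw [rootsB_app rt2 rt2]; rfl) (by decide +kernel))
  rwa [wd_append, wd_nil, mul_one] at h

theorem q3 : wd (W5 a1) * wd (W5 a2) = ng * (wd (W5 a2) * wd (W5 a1)) := by
  have h : wd (W5 a1 ++ W5 a2) = ng * wd (W5 a2 ++ W5 a1) :=
    wd_eqN (J2Words.chkN_j2fq (by rw [rootsB_app rt1 rt2, rootsB_app rt2 rt1]; rfl) (by decide +kernel))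
  rwa [wd_append, wd_append] at h

end core

section ten

open Matrix Cfsg Cfsg.Geo Cfsg.Agent.H915.LD Cfsg.Spor Cfsg.Agent.H1 Cfsg.Agent.J2.SixGens Cfsg.Agent.J2.Group
  Cfsg.Agent.J2.ZTau Cfsg.Agent.J2.Ico Cfsg.Agent.J2.Lattice Cfsg.Agent.J2.Refl Cfsg.Agent.J2.Stab Cfsg.Agent.H1.J2Lift Cfsg.Agent.H933.O10 Cfsg.Agent.H908.Ten

variable {F : Type u} [Field F] [Finite F] {p : ℕ} {Q : (Fin 10 → F) → F} {H P : Subgroup (GL (Fin 10) F)}

/-- **`J₂` is never the socle of a residual core in dimension ten.** -/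
theorem o10_j2 (hX : Cx p Q H P) (h : Spor.IsoJ2 (Soc P)) : False := by
  obtain ⟨e⟩ := h
  by_cases h2 : (2 : F) = 0
  · exact j2_two hX.core h2 e (by rw [Fintype.card_fin]; norm_num) (by rw [Fintype.card_fin]; norm_num)
  · obtain ⟨φ, hs, hp⟩ := TJ2.exists_cover hX.core e
    rcases TJ2.ng_image e hp with h1 | h1
    · have hb := sc_bot e hs hp (Subtype.ext (Units.ext h1))
      have hb' := (H921.Spor.J2.J2_two.bd Nat.prime_two (F := F) (by exact_mod_cast h2)) 10
        (hX.core.pr e (by rw [hb]; simp))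
      omega
    · have hneg : ∀ v, (ofCx hX).σ (φ ng) v = -v := by
        intro v
        rw [OT.σ_apply]
        change (algebraMap F (AlgebraicClosure F)).mapMatrix (((φ ng : P) : GL (Fin 10) F) : Matrix (Fin 10) (Fin 10) F) *ᵥ v = -v
        rw [h1, map_neg, map_one, Matrix.neg_mulVec, Matrix.one_mulVec]
      refine (ofCx hX).no_quat h2 (x := φ (wd (W5 a1))) (y := φ (wd (W5 a2))) (fun v => ?_) (fun v => ?_) (fun v => ?_)
      · rw [← Module.End.mul_apply, ← map_mul, ← map_mul, q1, hneg]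
      · rw [← Module.End.mul_apply, ← map_mul, ← map_mul, q2, hneg]
      · rw [← Module.End.mul_apply, ← map_mul, ← map_mul, q3, map_mul, map_mul, Module.End.mul_apply, hneg, map_mul,
          map_mul, Module.End.mul_apply]

end ten

end Cfsg.Agent.H933.JTwoTen
end

-- part: H871/Par10
section
prune_inst 0xffbdfffffeffffffff7fffffdfdffdffbbfffffffffdcbffeb6bff1fff5fb7cded7bfd0ffbf2ff9fd7e09e94f87b53fffffeffea6ffe7ffffdfff4dffbffdffdf7bd08719e8cb41fbe2ff783f27f8e7f000000000000000000000000000041004200000000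
set_option linter.all false
open scoped Cfsg.Agent.FastGrp

/-!
# `2^3:7` in the orthogonal groups of dimension at least 7 in odd characteristic

A frame `e_1, ..., e_7` of pairwise orthogonal vectors of the same non-zero norm gives `O_7 → O(Q)`, in which the signed
permutation matrices contain `2^3:7:3`; so `Ω(Q)` contains `2^3:7`.
-/

set_option autoImplicit false

universe u v w

namespace Cfsg.Agent.H871.Par

open Matrix
open scoped commutatorElement

section frame

variable {K : Type w} [Field K] {ι : Type} [Fintype ι] [DecidableEq ι]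

/-- `A` acting on the span of the frame `E`, identity on the orthogonal complement -/
def gm (E : Matrix ι (Fin 7) K) (R : Matrix (Fin 7) ι K) (A : Matrix (Fin 7) (Fin 7) K) : Matrix ι ι K :=
  1 + E * (A - 1) * R

variable {E : Matrix ι (Fin 7) K} {R : Matrix (Fin 7) ι K} {S : Matrix ι ι K} {d : K}

omit [Fintype ι] in
theorem gm_one : gm E R 1 = 1 := by simp [gm]

theorem gm_mul (h : R * E = 1) (A B : Matrix (Fin 7) (Fin 7) K) : gm E R A * gm E R B = gm E R (A * B) := by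
  unfold gm
  have h1 : E * (A - 1) * R * (E * (B - 1) * R) = E * ((A - 1) * (B - 1)) * R := by
    calc E * (A - 1) * R * (E * (B - 1) * R) = E * (A - 1) * (R * E) * (B - 1) * R := by
          simp only [Matrix.mul_assoc]
      _ = _ := by rw [h, Matrix.mul_one]; simp only [Matrix.mul_assoc]
  rw [Matrix.mul_add, Matrix.add_mul, Matrix.add_mul, h1, Matrix.one_mul, Matrix.one_mul, Matrix.mul_one, add_assoc,
    ← add_assoc (E * (A - 1) * R)]
  congr 1
  rw [add_assoc, ← Matrix.add_mul, ← Matrix.mul_add, ← Matrix.add_mul, ← Matrix.mul_add]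
  congr 2
  noncomm_ring

theorem gm_inj (h : R * E = 1) {A B : Matrix (Fin 7) (Fin 7) K} (hAB : gm E R A = gm E R B) : A = B := by
  unfold gm at hAB
  have h1 := add_left_cancel hAB
  have h2 : R * (E * (A - 1) * R) * E = R * (E * (B - 1) * R) * E := by rw [h1]
  have h3 : ∀ C : Matrix (Fin 7) (Fin 7) K, R * (E * C * R) * E = C := by
    intro C
    calc R * (E * C * R) * E = (R * E) * C * (R * E) := by simp only [Matrix.mul_assoc]
      _ = C := by rw [h, Matrix.mul_one, Matrix.one_mul]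
  rw [h3, h3] at h2
  exact sub_left_injective h2

theorem gm_tr (hSE : S * E = d • Rᵀ) (hES : Eᵀ * S = d • R) (hE : Eᵀ * S * E = d • 1)
    {A : Matrix (Fin 7) (Fin 7) K} (hA : Aᵀ * A = 1) : (gm E R A)ᵀ * S * gm E R A = S := by
  unfold gm
  rw [Matrix.transpose_add, Matrix.transpose_one, Matrix.transpose_mul, Matrix.transpose_mul, Matrix.add_mul,
    Matrix.add_mul, Matrix.mul_add, Matrix.mul_add, Matrix.one_mul, Matrix.mul_one, Matrix.mul_one]
  have e1 : S * (E * (A - 1) * R) = d • (Rᵀ * (A - 1) * R) := by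
    rw [← Matrix.mul_assoc, ← Matrix.mul_assoc, hSE, Matrix.smul_mul, Matrix.smul_mul]
  have e2 : Rᵀ * ((A - 1)ᵀ * Eᵀ) * S = d • (Rᵀ * (A - 1)ᵀ * R) := by
    rw [Matrix.mul_assoc, Matrix.mul_assoc, hES, Matrix.mul_smul, Matrix.mul_smul, Matrix.mul_assoc]
  have e3 : Rᵀ * ((A - 1)ᵀ * Eᵀ) * S * (E * (A - 1) * R) = d • (Rᵀ * ((A - 1)ᵀ * (A - 1)) * R) := by
    calc Rᵀ * ((A - 1)ᵀ * Eᵀ) * S * (E * (A - 1) * R) = Rᵀ * (A - 1)ᵀ * (Eᵀ * S * E) * (A - 1) * R := by
          simp only [Matrix.mul_assoc]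
      _ = _ := by
          rw [hE, Matrix.mul_smul, Matrix.mul_one, Matrix.smul_mul, Matrix.smul_mul]
          simp only [Matrix.mul_assoc]
  rw [e1, e3, e2, add_assoc, ← smul_add, ← Matrix.add_mul, ← Matrix.mul_add, ← smul_add, ← Matrix.add_mul,
    ← Matrix.mul_add]
  have e4 : (A - 1) + ((A - 1)ᵀ + (A - 1)ᵀ * (A - 1)) = 0 := by
    rw [Matrix.transpose_sub, Matrix.transpose_one]
    have : (Aᵀ - 1) * (A - 1) = Aᵀ * A - Aᵀ - A + 1 := by noncomm_ring
    rw [this, hA]
    abel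
  rw [e4, Matrix.mul_zero, Matrix.zero_mul, smul_zero, add_zero]

/-- a frame of seven orthogonal vectors -/
def IsFrame (Q : (ι → K) → K) (E : Matrix ι (Fin 7) K) (R : Matrix (Fin 7) ι K) : Prop :=
  R * E = 1 ∧ ∀ A : Matrix (Fin 7) (Fin 7) K, Aᵀ * A = 1 → ∀ v, Q (gm E R A *ᵥ v) = Q v

theorem isFrame_of {Q : (ι → K) → K} (h2 : (2 : K) ≠ 0) (hd : d ≠ 0) (hQ : ∀ v, 2 * Q v = v ⬝ᵥ S *ᵥ v) (hS : Sᵀ = S)
    (hE : Eᵀ * S * E = d • 1) : IsFrame Q E (d⁻¹ • (Eᵀ * S)) := by
  refine ⟨by rw [Matrix.smul_mul, hE, smul_smul, inv_mul_cancel₀ hd, one_smul], fun A hA v => ?_⟩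
  apply mul_left_cancel₀ h2
  rw [hQ, hQ, Matrix.mulVec_mulVec, Matrix.dotProduct_mulVec, ← Matrix.vecMul_transpose, Matrix.vecMul_vecMul,
    ← Matrix.dotProduct_mulVec, ← Matrix.mul_assoc]
  rw [gm_tr (d := d) ?_ ?_ hE hA]
  · rw [Matrix.transpose_smul, Matrix.transpose_mul, Matrix.transpose_transpose, hS, smul_smul, mul_inv_cancel₀ hd,
      one_smul]
  · rw [smul_smul, mul_inv_cancel₀ hd, one_smul]

variable {Q : (ι → K) → K}

theorem map_tr {A : Matrix (Fin 7) (Fin 7) ℤ} (h : Aᵀ * A = 1) :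
    (A.map (Int.castRingHom K))ᵀ * A.map (Int.castRingHom K) = 1 := by
  have := congrArg (fun M : Matrix (Fin 7) (Fin 7) ℤ => M.map (Int.castRingHom K)) h
  rwa [Matrix.map_mul, Matrix.transpose_map, Matrix.map_one _ (map_zero _) (map_one _)] at this

/-- the isometry attached to a signed permutation -/
def G (h : IsFrame Q E R) (A : Matrix (Fin 7) (Fin 7) ℤ) (hA : Aᵀ * A = 1) (hA' : A * Aᵀ = 1) :
    Cfsg.isometryGroup K Q :=
  ⟨⟨gm E R (A.map (Int.castRingHom K)), gm E R (Aᵀ.map (Int.castRingHom K)), by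
    rw [gm_mul h.1, ← Matrix.map_mul, hA', Matrix.map_one _ (map_zero _) (map_one _), gm_one], by
    rw [gm_mul h.1, ← Matrix.map_mul, hA, Matrix.map_one _ (map_zero _) (map_one _), gm_one]⟩,
    fun u _ => h.2 _ (map_tr hA) u⟩

theorem G_mul (h : IsFrame Q E R) {A B C : Matrix (Fin 7) (Fin 7) ℤ} {hA : Aᵀ * A = 1} {hA' : A * Aᵀ = 1}
    {hB : Bᵀ * B = 1} {hB' : B * Bᵀ = 1} {hC : Cᵀ * C = 1} {hC' : C * Cᵀ = 1} (e : A * B = C) :
    G h A hA hA' * G h B hB hB' = G h C hC hC' := by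
  subst e
  apply Subtype.ext
  apply Units.ext
  change gm E R _ * gm E R _ = gm E R _
  rw [gm_mul h.1, ← Matrix.map_mul]

theorem G_comm (h : IsFrame Q E R) {A B C : Matrix (Fin 7) (Fin 7) ℤ} {hA : Aᵀ * A = 1} {hA' : A * Aᵀ = 1}
    {hB : Bᵀ * B = 1} {hB' : B * Bᵀ = 1} {hC : Cᵀ * C = 1} {hC' : C * Cᵀ = 1} (e : A * B = C * (B * A)) :
    G h C hC hC' ∈ commutator (Cfsg.isometryGroup K Q) := by
  have h1 : ⁅G h A hA hA', G h B hB hB'⁆ = G h C hC hC' := by
    rw [commutatorElement_def, mul_inv_eq_iff_eq_mul, mul_inv_eq_iff_eq_mul]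
    apply Subtype.ext
    apply Units.ext
    change gm E R _ * gm E R _ = gm E R _ * gm E R _ * gm E R _
    rw [gm_mul h.1, gm_mul h.1, gm_mul h.1, ← Matrix.map_mul, ← Matrix.map_mul, ← Matrix.map_mul, e, Matrix.mul_assoc]
  rw [← h1]
  exact Subgroup.commutator_mem_commutator (Subgroup.mem_top _) (Subgroup.mem_top _)

theorem G_ne (h : IsFrame Q E R) {A : Matrix (Fin 7) (Fin 7) ℤ} {hA : Aᵀ * A = 1} {hA' : A * Aᵀ = 1}
    (h2 : (2 : K) ≠ 0) (i : Fin 7) (hi : A i i = -1) : G h A hA hA' ≠ 1 := by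
  intro h0
  have h1 : gm E R (A.map (Int.castRingHom K)) = gm E R 1 := by
    rw [gm_one]
    exact congrArg (fun x : Cfsg.isometryGroup K Q => ((x : GL ι K) : Matrix ι ι K)) h0
  have h3 := congrFun (congrFun (gm_inj h.1 h1) i) i
  rw [Matrix.map_apply, hi, Matrix.one_apply_eq, map_neg, map_one] at h3
  apply h2
  linear_combination -h3

/-- the signed permutations -/
def Ya : Matrix (Fin 7) (Fin 7) ℤ := Matrix.of fun i j => if i = j + 1 then 1 else 0
/-- the Frobenius twist -/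
def Ta : Matrix (Fin 7) (Fin 7) ℤ := Matrix.of fun i j => if i = 2 * j then 1 else 0
/-- the code words -/
def Da (k : Fin 7) : Matrix (Fin 7) (Fin 7) ℤ :=
  Matrix.of fun i j => if i = j then (if i - k = 2 ∨ i - k = 3 ∨ i - k = 4 ∨ i - k = 6 then -1 else 1) else 0

private noncomputable def _root_.Cfsg.Agent.LsF.fd961fc_0 : {f // @Cfsg.Agent.H871.Par.Da = f} := ⟨_, by first | (delta Cfsg.Agent.H871.Par.Da; rewrite [Cfsg.Agent.LsF.mof_pat, Cfsg.Agent.LsF.ineg_pat, Cfsg.Agent.LsF.fsub_pat, Cfsg.Agent.LsF.dOr_eq, Cfsg.Agent.LsF.dFinEq_eq, Cfsg.Agent.LsF.ite_eq]; exact rfl) | exact rfl⟩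
private noncomputable def _root_.Cfsg.Agent.LsF.fd961fc_1 : {f // @Cfsg.Agent.H871.Par.Ya = f} := ⟨_, by first | (delta Cfsg.Agent.H871.Par.Ya; rewrite [Cfsg.Agent.LsF.mof_pat, Cfsg.Agent.LsF.fadd_pat, Cfsg.Agent.LsF.dFinEq_eq, Cfsg.Agent.LsF.ite_eq]; exact rfl) | exact rfl⟩
theorem frob8_frame (h : IsFrame Q E R) (h2 : (2 : K) ≠ 0) : Frob8 (Cfsg.Omega K Q) := by
  have y1 : Yaᵀ * Ya = 1 := by decide +kernel
  have y2 : Ya * Yaᵀ = 1 := by decide +kernel
  have t1 : Taᵀ * Ta = 1 := by decide +kernel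
  have t2 : Ta * Taᵀ = 1 := by decide +kernel
  have d1 : ∀ k, (Da k)ᵀ * Da k = 1 := by (refine of_decide_eq_true ?_; (try (rewrite [Cfsg.Agent.LsF.mmulF_pat, Cfsg.Agent.LsF.fd961fc_0.2, Cfsg.Agent.LsF.iadd_pat, Cfsg.Agent.LsF.imul_pat, Cfsg.Agent.LsF.finFintype_eq, Cfsg.Agent.LsF.dMat_eq, Cfsg.Agent.LsF.transpose_eq, Cfsg.Agent.LsF.instMOne_eq, Cfsg.Agent.LsF.iACM_eq, Cfsg.Agent.LsF.instIDecEq_eq, Cfsg.Agent.LsF.dFinEq_eq, Cfsg.Agent.LsF.dForallFin_eq, Cfsg.Agent.LsF.decide_eq])); decide +kernel)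
  have d2 : ∀ k, Da k * (Da k)ᵀ = 1 := by (refine of_decide_eq_true ?_; (try (rewrite [Cfsg.Agent.LsF.mmulF_pat, Cfsg.Agent.LsF.fd961fc_0.2, Cfsg.Agent.LsF.iadd_pat, Cfsg.Agent.LsF.imul_pat, Cfsg.Agent.LsF.finFintype_eq, Cfsg.Agent.LsF.dMat_eq, Cfsg.Agent.LsF.transpose_eq, Cfsg.Agent.LsF.instMOne_eq, Cfsg.Agent.LsF.iACM_eq, Cfsg.Agent.LsF.instIDecEq_eq, Cfsg.Agent.LsF.dFinEq_eq, Cfsg.Agent.LsF.dForallFin_eq, Cfsg.Agent.LsF.decide_eq])); decide +kernel)
  have my : G h Ya y1 y2 ∈ commutator (Cfsg.isometryGroup K Q) :=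
    G_comm h (A := Ta) (B := Ya) (hA := t1) (hA' := t2) (hB := y1) (hB' := y2) (by decide +kernel)
  have md : ∀ k, G h (Da k) (d1 k) (d2 k) ∈ commutator (Cfsg.isometryGroup K Q) := fun k =>
    G_comm h (A := Ya) (B := Da (k + 4)) (hA := y1) (hA' := y2) (hB := d1 _) (hB' := d2 _) (by revert k; (refine of_decide_eq_true ?_; (try (rewrite [Cfsg.Agent.LsF.mmulF_pat, Cfsg.Agent.LsF.fd961fc_1.2, Cfsg.Agent.LsF.fd961fc_0.2, Cfsg.Agent.LsF.iadd_pat, Cfsg.Agent.LsF.imul_pat, Cfsg.Agent.LsF.fadd_pat, Cfsg.Agent.LsF.finFintype_eq, Cfsg.Agent.LsF.dMat_eq, Cfsg.Agent.LsF.iACM_eq, Cfsg.Agent.LsF.instIDecEq_eq, Cfsg.Agent.LsF.dForallFin_eq, Cfsg.Agent.LsF.decide_eq])); decide +kernel))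
  have sub : ∀ {x y : Cfsg.Omega K Q}, x.1 = y.1 → x = y := fun h => Subtype.ext h
  have conj : ∀ k l : Fin 7, Ya * Da k = Da l * Ya → G h Ya y1 y2 * G h (Da k) (d1 k) (d2 k) * (G h Ya y1 y2)⁻¹ =
      G h (Da l) (d1 l) (d2 l) := by
    intro k l e
    rw [mul_inv_eq_iff_eq_mul]
    apply Subtype.ext
    apply Units.ext
    change gm E R _ * gm E R _ = gm E R _ * gm E R _
    rw [gm_mul h.1, gm_mul h.1, ← Matrix.map_mul, ← Matrix.map_mul, e]
  have one : ∀ A B : Matrix (Fin 7) (Fin 7) ℤ, ∀ (hA : Aᵀ * A = 1) (hA' : A * Aᵀ = 1) (hB : Bᵀ * B = 1)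
      (hB' : B * Bᵀ = 1), ∀ C D : Matrix (Fin 7) (Fin 7) ℤ, ∀ (hC : Cᵀ * C = 1) (hC' : C * Cᵀ = 1) (hD : Dᵀ * D = 1)
      (hD' : D * Dᵀ = 1), A * B = C * D → G h A hA hA' * G h B hB hB' = G h C hC hC' * G h D hD hD' := by
    intro A B hA hA' hB hB' C D hC hC' hD hD' e
    apply Subtype.ext
    apply Units.ext
    change gm E R _ * gm E R _ = gm E R _ * gm E R _
    rw [gm_mul h.1, gm_mul h.1, ← Matrix.map_mul, ← Matrix.map_mul, e]
  refine ⟨⟨_, md 0⟩, ⟨_, md 1⟩, ⟨_, md 2⟩, ⟨_, my⟩, sub ?_, ?_, sub ?_, sub ?_, sub ?_, sub ?_⟩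
  · change G h (Da 0) (d1 0) (d2 0) * G h (Da 0) (d1 0) (d2 0) = 1
    rw [G_mul h (C := 1) (hC := by decide +kernel) (hC' := by decide +kernel) (by decide +kernel)]
    apply Subtype.ext
    apply Units.ext
    change gm E R _ = 1
    rw [Matrix.map_one _ (map_zero _) (map_one _), gm_one]
  · intro h0
    exact G_ne h (hA := d1 0) (hA' := d2 0) h2 2 (by decide +kernel) (congrArg Subtype.val h0)
  · exact one (Da 0) (Da 1) (d1 0) (d2 0) (d1 1) (d2 1) (Da 1) (Da 0) (d1 1) (d2 1) (d1 0) (d2 0) (by decide +kernel)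
  · exact conj 0 1 (by decide +kernel)
  · exact conj 1 2 (by decide +kernel)
  · change G h Ya y1 y2 * G h (Da 2) (d1 2) (d2 2) * (G h Ya y1 y2)⁻¹ = G h (Da 0) (d1 0) (d2 0) * G h (Da 1) (d1 1) (d2 1)
    rw [conj 2 3 (by decide +kernel), G_mul h (C := Da 3) (hC := d1 3) (hC' := d2 3) (by decide +kernel)]

end frame

section inst

variable {K : Type w} [Field K]

theorem exists_sq (p : ℕ) [Fact p.Prime] [CharP K p] : ∃ a b : K, a ^ 2 + b ^ 2 = -1 := by
  obtain ⟨a, b, h⟩ := CharP.sq_add_sq K p (-1)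
  exact ⟨a, b, by rw [h]; simp⟩

/-- `x` coordinates -/
def X3 (a b : K) : Matrix (Fin 3) (Fin 7) K := !![1, 0, 0, a, b, 0, 0; 0, 1, 0, b, -a, 0, 0; 0, 0, 1, 0, 0, a, b]
/-- `y` coordinates -/
def Y3 (a b : K) : Matrix (Fin 3) (Fin 7) K := !![-1, 0, 0, a, b, 0, 0; 0, -1, 0, b, -a, 0, 0; 0, 0, -1, 0, 0, a, b]
/-- the coordinate of norm 1 -/
def Z1 (a b : K) : Matrix Unit (Fin 7) K := Matrix.of fun _ => ![0, 0, 0, 0, 0, b, -a]
/-- `x` coordinates -/
def X4 (a b : K) : Matrix (Fin 4) (Fin 7) K :=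
  !![1, 0, 0, a, b, 0, 0; 0, 1, 0, b, -a, 0, 0; 0, 0, 1, 0, 0, a, b; 0, 0, 0, 0, 0, b, -a]
/-- `y` coordinates -/
def Y4 (a b : K) : Matrix (Fin 4) (Fin 7) K :=
  !![-1, 0, 0, a, b, 0, 0; 0, -1, 0, b, -a, 0, 0; 0, 0, -1, 0, 0, a, b; 0, 0, 0, 0, 0, b, -a]
/-- the coordinates in the last plane -/
def Z2 (a b : K) : Matrix (Fin 2) (Fin 7) K := !![0, 0, 0, 0, 0, b, -a; 0, 0, 0, 0, 0, 0, 0]

theorem frame3 {a b : K} (h : a ^ 2 + b ^ 2 = -1) :
    (Z1 a b)ᵀ * (Matrix.of fun _ _ => 2 : Matrix Unit Unit K) * Z1 a b + ((Y3 a b)ᵀ * X3 a b + (X3 a b)ᵀ * Y3 a b) = (-2 : K) • 1 := by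
  ext i j
  (revert i j; simp only [X3, Y3, Z1, Matrix.mul_apply, Fin.sum_univ_succ, _root_.Fin.forall_fin_succ, _root_.Matrix.add_apply, _root_.Finset.univ_unique, _root_.PUnit.default_eq_unit, _root_.Matrix.transpose_apply, _root_.Matrix.of_apply, _root_.Finset.sum_const, _root_.Finset.card_singleton, _root_.one_smul, _root_.Matrix.cons_val', _root_.Matrix.cons_val_fin_one, Fin.isValue, _root_.Matrix.cons_val_zero, _root_.Matrix.cons_val_succ, _root_.Fin.default_eq_zero, _root_.Matrix.smul_apply, _root_.smul_eq_mul, _root_.neg_mul, _root_.MulZeroClass.mul_zero, _root_.mul_one, _root_.add_zero, _root_.mul_neg, _root_.zero_add, _root_.IsEmpty.forall_iff, _root_.and_true, _root_.Matrix.one_apply_eq, _root_.neg_zero, Nat.reduceAdd, _root_.Fin.succ_zero_eq_one, _root_.ne_eq, _root_.zero_ne_one, _root_.not_false_eq_true, _root_.Matrix.one_apply_ne, _root_.Fin.succ_one_eq_two, Fin.reduceEq, _root_.one_mul, _root_.MulZeroClass.zero_mul, _root_.neg_add_cancel,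 Fin.reduceSucc, _root_.and_self, _root_.add_neg_cancel, _root_.Fin.succ_ne_zero, _root_.true_and, _root_.neg_neg, _root_.zero_eq_neg, _root_.mul_eq_zero, _root_.or_true, _root_.and_self_left]) <;> (repeat' with_reducible apply And.intro) <;> first | ring1 | linear_combination 2 * h

theorem frame4 {a b : K} (h : a ^ 2 + b ^ 2 = -1) :
    (Y4 a b)ᵀ * X4 a b + (X4 a b)ᵀ * Y4 a b = (-2 : K) • 1 := by
  ext i j
  (revert i j; simp only [X4, Y4, Matrix.mul_apply, Fin.sum_univ_succ, _root_.Fin.forall_fin_succ, _root_.Matrix.add_apply, _root_.Matrix.transpose_apply, _root_.Matrix.of_apply, _root_.Matrix.cons_val', _root_.Matrix.cons_val_fin_one, Fin.isValue, _root_.Matrix.cons_val_zero, _root_.Matrix.cons_val_succ, _root_.Finset.univ_unique, _root_.Fin.default_eq_zero, _root_.Finset.sum_const, _root_.Finset.card_singleton, _root_.one_smul, _root_.Matrix.smul_apply, _root_.smul_eq_mul, _root_.neg_mul, _root_.mul_one, _root_.MulZeroClass.mul_zero,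 _root_.add_zero, _root_.mul_neg, _root_.zero_add, _root_.IsEmpty.forall_iff, _root_.and_true, _root_.Matrix.one_apply_eq, _root_.neg_zero, Nat.reduceAdd, _root_.Fin.succ_zero_eq_one, _root_.ne_eq, _root_.zero_ne_one, _root_.not_false_eq_true, _root_.Matrix.one_apply_ne, _root_.Fin.succ_one_eq_two, Fin.reduceEq, _root_.one_mul, _root_.MulZeroClass.zero_mul, _root_.neg_add_cancel, Fin.reduceSucc, _root_.and_self, _root_.add_neg_cancel, _root_.Fin.succ_ne_zero, _root_.true_and, _root_.neg_neg, _root_.zero_eq_neg, _root_.mul_eq_zero, _root_.or_true, _root_.and_self_left]) <;> (repeat' with_reducible apply And.intro) <;> first | ring1 | linear_combination 2 * h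

theorem frame2 {a b : K} (h : a ^ 2 + b ^ 2 = -1) (c d : K) :
    ((Y3 a b)ᵀ * X3 a b + (X3 a b)ᵀ * Y3 a b) + (Z2 a b)ᵀ * !![2, c; c, 2 * d] * Z2 a b = (-2 : K) • 1 := by
  ext i j
  (revert i j; simp only [X3, Y3, Z2, Matrix.mul_apply, Fin.sum_univ_succ, _root_.Fin.forall_fin_succ, _root_.Matrix.add_apply, _root_.Matrix.transpose_apply, _root_.Matrix.of_apply, _root_.Matrix.cons_val', _root_.Matrix.cons_val_fin_one, Fin.isValue, _root_.Matrix.cons_val_zero, _root_.Matrix.cons_val_succ, _root_.Finset.univ_unique, _root_.Fin.default_eq_zero, _root_.Finset.sum_const, _root_.Finset.card_singleton, _root_.one_smul, _root_.Matrix.smul_apply, _root_.smul_eq_mul, _root_.neg_mul, _root_.mul_one, _root_.MulZeroClass.mul_zero, _root_.add_zero, _root_.mul_neg, _root_.zero_add, _root_.IsEmpty.forall_iff, _root_.and_true, _root_.Matrix.one_apply_eq, _root_.neg_zero, Nat.reduceAdd, _root_.Fin.succ_zero_eq_one, _root_.ne_eq, _root_.zero_ne_one, _root_.not_false_eq_true,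 _root_.Matrix.one_apply_ne, _root_.Fin.succ_one_eq_two, Fin.reduceEq, _root_.one_mul, _root_.MulZeroClass.zero_mul, _root_.neg_add_cancel, Fin.reduceSucc, _root_.and_self, _root_.add_neg_cancel, _root_.Fin.succ_ne_zero, _root_.true_and, _root_.neg_neg, _root_.zero_eq_neg, _root_.mul_eq_zero, _root_.or_true, _root_.and_self_left]) <;> (repeat' with_reducible apply And.intro) <;> first | ring1 | linear_combination 2 * h

theorem hyp_tr {κ : Type} [DecidableEq κ] : (fromBlocks 0 1 1 0 : Matrix (κ ⊕ κ) (κ ⊕ κ) K)ᵀ = fromBlocks 0 1 1 0 := by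
  rw [Matrix.fromBlocks_transpose]; simp

theorem hyp_q {m : ℕ} (v : Fin m ⊕ Fin m → K) :
    2 * Cfsg.quadFormPlus m K v = v ⬝ᵥ (fromBlocks 0 1 1 0 : Matrix (Fin m ⊕ Fin m) (Fin m ⊕ Fin m) K) *ᵥ v := by
  unfold Cfsg.quadFormPlus
  simp only [Matrix.fromBlocks_mulVec, dotProduct, Fintype.sum_sum_type]
  simp only [_root_.Matrix.zero_mulVec, _root_.Matrix.one_mulVec, _root_.zero_add, _root_.add_zero, _root_.Sum.elim_inl, _root_.Function.comp_apply, _root_.Sum.elim_inr]
  rw [two_mul]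
  congr 1
  exact Finset.sum_congr rfl fun i _ => mul_comm _ _

theorem frob8_plus4 {p : ℕ} [Fact p.Prime] [CharP K p] (h2 : (2 : K) ≠ 0) :
    Frob8 (Cfsg.Omega K (Cfsg.quadFormPlus 4 K)) := by
  obtain ⟨a, b, h⟩ := exists_sq (K := K) p
  refine frob8_frame (isFrame_of (E := fromRows (X4 a b) (Y4 a b)) (S := fromBlocks 0 1 1 0) (d := -2) h2
    (neg_ne_zero.2 h2) hyp_q hyp_tr ?_) h2
  rw [Matrix.transpose_fromRows, Matrix.fromCols_mul_fromBlocks, Matrix.fromCols_mul_fromRows]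
  simp only [Matrix.mul_zero, Matrix.mul_one, zero_add, add_zero]
  exact frame4 h

theorem frob8_odd3 {p : ℕ} [Fact p.Prime] [CharP K p] (h2 : (2 : K) ≠ 0) :
    Frob8 (Cfsg.Omega K (Cfsg.quadFormOdd 3 K)) := by
  obtain ⟨a, b, h⟩ := exists_sq (K := K) p
  refine frob8_frame (isFrame_of (E := fromRows (Z1 a b) (fromRows (X3 a b) (Y3 a b)))
    (S := fromBlocks (Matrix.of fun _ _ => 2 : Matrix Unit Unit K) 0 0 (fromBlocks 0 1 1 0)) (d := -2) h2
    (neg_ne_zero.2 h2) ?_ ?_ ?_) h2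
  · intro v
    have h3 : Cfsg.quadFormOdd 3 K v = v (.inl ()) ^ 2 + Cfsg.quadFormPlus 3 K (v ∘ Sum.inr) := rfl
    rw [h3, mul_add, hyp_q]
    simp only [Matrix.fromBlocks_mulVec, dotProduct, Fintype.sum_sum_type]
    simp only [Matrix.mulVec, dotProduct, Fin.sum_univ_succ, _root_.Function.comp_apply, _root_.Matrix.zero_mulVec, _root_.Matrix.one_mulVec, _root_.zero_add, _root_.add_zero, _root_.Sum.elim_inl, _root_.Fin.sum_univ_succ, _root_.Fin.isValue, _root_.Fin.succ_zero_eq_one, _root_.Finset.univ_unique, _root_.Fin.default_eq_zero, _root_.Finset.sum_singleton, _root_.Fin.succ_one_eq_two, _root_.Sum.elim_inr, _root_.PUnit.default_eq_unit, _root_.Matrix.mulVec, _root_.dotProduct, _root_.Matrix.of_apply, _root_.add_left_inj]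
    ring
  · rw [Matrix.fromBlocks_transpose, hyp_tr, Matrix.transpose_zero, Matrix.transpose_zero]
    congr 1
  · rw [Matrix.transpose_fromRows, Matrix.transpose_fromRows, Matrix.fromCols_mul_fromBlocks,
      Matrix.fromCols_mul_fromRows, Matrix.mul_zero, add_zero, Matrix.mul_zero, zero_add,
      Matrix.fromCols_mul_fromBlocks, Matrix.fromCols_mul_fromRows]
    simp only [Matrix.mul_zero, Matrix.mul_one, zero_add, add_zero]
    exact frame3 h

theorem frob8_minus3 {p : ℕ} [Fact p.Prime] [CharP K p] (h2 : (2 : K) ≠ 0) (c d : K) :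
    Frob8 (Cfsg.Omega K (Cfsg.quadFormMinus 3 K c d)) := by
  obtain ⟨a, b, h⟩ := exists_sq (K := K) p
  refine frob8_frame (isFrame_of (E := fromRows (fromRows (X3 a b) (Y3 a b)) (Z2 a b))
    (S := fromBlocks (fromBlocks 0 1 1 0) 0 0 !![2, c; c, 2 * d]) (d := -2) h2
    (neg_ne_zero.2 h2) ?_ ?_ ?_) h2
  · intro v
    have h3 : Cfsg.quadFormMinus 3 K c d v = Cfsg.quadFormPlus 3 K (v ∘ Sum.inl) +
      (v (.inr 0) ^ 2 + c * v (.inr 0) * v (.inr 1) + d * v (.inr 1) ^ 2) := rfl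
    rw [h3, mul_add, hyp_q]
    simp only [Matrix.fromBlocks_mulVec, dotProduct, Fintype.sum_sum_type]
    simp only [dotProduct, Fin.sum_univ_succ, _root_.Function.comp_apply, _root_.Matrix.zero_mulVec, _root_.Matrix.one_mulVec, _root_.zero_add, _root_.add_zero, _root_.Sum.elim_inl, _root_.Fin.sum_univ_succ, _root_.Fin.isValue, _root_.Fin.succ_zero_eq_one, _root_.Finset.univ_unique, _root_.Fin.default_eq_zero, _root_.Finset.sum_singleton, _root_.Fin.succ_one_eq_two, _root_.Sum.elim_inr, _root_.Matrix.cons_mulVec, _root_.dotProduct, _root_.Matrix.cons_val_zero, _root_.Matrix.cons_val_succ, _root_.Matrix.cons_val_fin_one, _root_.Matrix.empty_mulVec, _root_.add_right_inj]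
    ring
  · rw [Matrix.fromBlocks_transpose, hyp_tr, Matrix.transpose_zero, Matrix.transpose_zero]
    congr 1
    ext i j
    fin_cases i <;> fin_cases j <;> rfl
  · rw [Matrix.transpose_fromRows, Matrix.transpose_fromRows, Matrix.fromCols_mul_fromBlocks,
      Matrix.fromCols_mul_fromRows, Matrix.mul_zero, add_zero, Matrix.mul_zero, zero_add,
      Matrix.fromCols_mul_fromBlocks, Matrix.fromCols_mul_fromRows]
    simp only [Matrix.mul_zero, Matrix.mul_one, zero_add, add_zero]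
    exact frame2 h c d

/-- `2^3:7 ≤ PΩ⁺_{2m}(q)`, `q` odd, `m ≥ 4` -/
theorem frob8_pomega_plus {p : ℕ} [Fact p.Prime] [CharP K p] (h2 : (2 : K) ≠ 0) {m : ℕ} (hm : 4 ≤ m) :
    Frob8 (Cfsg.POmega K (Cfsg.quadFormPlus m K)) := by
  obtain ⟨f, hf⟩ := H912.Bd.exists_plus (K := K) hm
  exact (frob8_plus4 (p := p) h2).map f hf

/-- `2^3:7 ≤ PΩ_{2m+1}(q)`, `q` odd, `m ≥ 3` -/
theorem frob8_pomega_odd {p : ℕ} [Fact p.Prime] [CharP K p] (h2 : (2 : K) ≠ 0) {m : ℕ} (hm : 3 ≤ m) :
    Frob8 (Cfsg.POmega K (Cfsg.quadFormOdd m K)) := by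
  rcases eq_or_lt_of_le hm with rfl | h4
  · exact (frob8_odd3 (p := p) h2).quot
  · obtain ⟨f, hf⟩ := H912.Bd.exists_odd (K := K) (show 4 ≤ m from h4)
    exact (frob8_plus4 (p := p) h2).map f hf

/-- `2^3:7 ≤ PΩ⁻_{2m+2}(q)`, `q` odd, `m ≥ 3` -/
theorem frob8_pomega_minus {p : ℕ} [Fact p.Prime] [CharP K p] (h2 : (2 : K) ≠ 0) {m : ℕ} (hm : 3 ≤ m) (c d : K) :
    Frob8 (Cfsg.POmega K (Cfsg.quadFormMinus m K c d)) := by
  obtain ⟨f, hf⟩ := H912.Bd.exists_minus_minus (K := K) hm c d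
  exact (frob8_minus3 (p := p) h2 c d).map f hf

end inst

end Cfsg.Agent.H871.Par

private theorem dce_81eff3fc5367 : _root_.True := by
  try have : _root_.True := by simp only [_root_.Cfsg.Agent.H871.Par.Y3.eq_1]
  try have : _root_.True := by simp only [_root_.Cfsg.Agent.H871.Par.Z2.eq_1]
  try have : _root_.True := by simp only [_root_.Cfsg.Agent.H871.Par.X4.eq_1]
  try have : _root_.True := by simp only [_root_.Cfsg.Agent.H871.Par.Z1.eq_1]
  try have : _root_.True := by simp only [_root_.Cfsg.Agent.H871.Par.X3.eq_1]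
  try have : _root_.True := by simp only [_root_.Cfsg.Agent.H871.Par.Y4.eq_1]
  try have : _root_.True := by simp only [_root_.Cfsg.Agent.H871.Par.gm.eq_1]
  exact _root_.True.intro
end

-- part: H905/JDCard
section
set_option linter.all false
open scoped Cfsg.Agent.FastGrp

/-!
# The Hall-Janko group in degree at most twelve (helper905; characteristic two: helper4, helper933, helper808)

**`J2_six`** : a core of degree at most twelve over a finite field which modulo scalars is the Hall-Janko group has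
degree six.
-/

set_option autoImplicit false
set_option linter.unusedSectionVars false

namespace Cfsg.Agent.H905.JD

open Function Subgroup Cfsg Cfsg.Spor Cfsg.Geo Cfsg.Agent.H915.LD Cfsg.Agent.J2.ZTau Cfsg.Agent.J2.Ico
  Cfsg.Agent.J2.Lattice Cfsg.Agent.J2.Refl Cfsg.Agent.J2.Group Cfsg.Agent.J2.Stab Cfsg.Agent.J2.SixGens
  Cfsg.Agent.H1.J2Lift
open Module Matrix

universe u

variable {ι : Type} [Fintype ι] [DecidableEq ι] {F : Type u} [Field F] {P : Subgroup (Matrix.GeneralLinearGroup ι F)}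

theorem core_ne_one (hC : Core P) (h : ∀ g : P, g = 1) : False := by
  have := hC.simple
  obtain ⟨x, hx⟩ := exists_ne (1 : Soc P)
  obtain ⟨g, rfl⟩ := toSoc_surjective P x
  rw [h g, map_one] at hx
  exact hx rfl

/-- **the Hall-Janko group in degree at most twelve, odd characteristic** -/
theorem J2_six_odd (hC : Core P) (e : Soc P ≃* J2) (hn : Fintype.card ι ≤ 12) (h2 : (2 : F) ≠ 0) :
    Fintype.card ι = 6 := by
  obtain ⟨φ, hφ, hp⟩ := Cfsg.Agent.H1.TJ2.exists_cover hC e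
  let ψ : W →* Matrix.GeneralLinearGroup ι F := P.subtype.comp φ
  have hr : ψ.range = P := by
    ext g
    constructor
    · rintro ⟨w, rfl⟩
      exact (φ w).2
    · intro hg
      obtain ⟨w, hw⟩ := hφ ⟨g, hg⟩
      exact ⟨w, congrArg Subtype.val hw⟩
  have hs : Submodule.span F (matrixSet P) = ⊤ := Cfsg.Agent.H920.span_eq_top hC.absIrred
  let K := AlgebraicClosure F
  have hirr := Cfsg.Agent.H659.Ac.rp_irr (K := K) (φ := ψ) hr hs
  have h2' : (2 : K) ≠ 0 := by
    have h3 : algebraMap F K 2 ≠ 0 := (map_ne_zero _).2 h2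
    rwa [map_ofNat] at h3
  have hdim : finrank K (ι → K) = Fintype.card ι := Module.finrank_fintype_fun_eq_card K
  have hne : Nonempty ι := hC.nonempty
  rcases Cfsg.Agent.H1.TJ2.ng_image e hp with h | h
  · exfalso
    have h3 := triv_one (ρ := Cfsg.Agent.H659.Ac.rp K ψ) h2' (fun v => by
      have h3 : ((ψ ng : Matrix.GeneralLinearGroup ι F) : Matrix ι ι F) = 1 := h
      rw [Cfsg.Agent.H659.Ac.rp_apply, h3, Matrix.map_one _ (map_zero _) (map_one _), Matrix.one_mulVec])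
      (by rw [hdim]; exact hn) hirr
    refine core_ne_one hC fun g => ?_
    obtain ⟨w, rfl⟩ := hφ g
    have h4 : ((ψ w : Matrix.GeneralLinearGroup ι F) : Matrix ι ι F).map (algebraMap F K) = 1 := by
      apply Matrix.mulVec_injective
      funext v
      rw [← Cfsg.Agent.H659.Ac.rp_apply, h3, one_mulVec]
    apply Subtype.ext
    apply Units.ext
    ext i j
    have h5 := congrFun (congrFun h4 i) j
    rw [Matrix.map_apply] at h5
    apply (algebraMap F K).injective
    change algebraMap F K (((ψ w : Matrix.GeneralLinearGroup ι F) : Matrix ι ι F) i j) = _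
    rw [h5]
    change _ = algebraMap F K ((1 : Matrix ι ι F) i j)
    by_cases hij : i = j
    · subst hij; rw [one_apply_eq, one_apply_eq, map_one]
    · rw [one_apply_ne hij, one_apply_ne hij, map_zero]
  · rw [← hdim]
    refine neg_six (ρ := Cfsg.Agent.H659.Ac.rp K ψ) h2' (fun v => ?_) (by rw [hdim]; exact hn) hirr
    have h3 : ((ψ ng : Matrix.GeneralLinearGroup ι F) : Matrix ι ι F) = -1 := h
    have h4 : (-1 : Matrix ι ι F).map (algebraMap F K) = -1 := by
      ext i j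
      simp [Matrix.map_apply, Matrix.one_apply, apply_ite (algebraMap F K)]
    rw [Cfsg.Agent.H659.Ac.rp_apply, h3, h4, Matrix.neg_mulVec, Matrix.one_mulVec]

/-- **the Hall-Janko group in degree at most twelve** -/
theorem J2_six [Finite F] (hC : Core P) (hJ : Spor.IsoJ2 (Soc P)) (hn : Fintype.card ι ≤ 12) :
    Fintype.card ι = 6 := by
  by_cases h2 : (2 : F) = 0
  · have : CharP F 2 := CharTwo.of_one_ne_zero_of_two_eq_zero one_ne_zero h2
    by_contra h6
    have hcase : Fintype.card ι ≤ 5 ∨ (Fintype.card ι = 7 ∨ Fintype.card ι = 8) ∨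
        (9 ≤ Fintype.card ι ∧ Fintype.card ι ≤ 11) ∨ Fintype.card ι = 12 := by omega
    rcases hcase with h | h | h | h
    · obtain ⟨P', hC', ⟨e'⟩, -⟩ := Cfsg.Agent.H936.Reix.core_fin hC
      obtain ⟨e⟩ := hJ
      have hJ' : Spor.IsoJ2 (Soc P') := ⟨e'.symm.trans e⟩
      have hb := Cfsg.Agent.H808.JD.scalars_bot hC' hJ'
      obtain ⟨e1⟩ := Cfsg.Agent.H933.JTwoTen.equiv_of_bot (e'.symm.trans e) hb
      have h1 := Cfsg.Agent.H4.JT.j2_two_min (G := P') ⟨e1⟩ h P'.subtype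
      refine core_ne_one hC' fun g => ?_
      exact Subtype.ext (DFunLike.congr_fun h1 g)
    · obtain ⟨P', hC', ⟨e'⟩, -⟩ := Cfsg.Agent.H936.Reix.core_fin hC
      obtain ⟨e⟩ := hJ
      have hJ' : Spor.IsoJ2 (Soc P') := ⟨e'.symm.trans e⟩
      have hb := Cfsg.Agent.H808.JD.scalars_bot hC' hJ'
      obtain ⟨e1⟩ := Cfsg.Agent.H933.JTwoTen.equiv_of_bot (e'.symm.trans e) hb
      refine Cfsg.Agent.H4.JT.j2_two_eight_irr (G := P') ⟨e1⟩ h P'.subtype ?_
      rw [Subgroup.range_subtype]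
      exact hC'.absIrred.1
    · obtain ⟨e⟩ := hJ
      exact Cfsg.Agent.H933.JTwoTen.j2_two hC h2 e h.1 h.2
    · exact Cfsg.Agent.H808.JD.core_false hC hJ h
  · obtain ⟨e⟩ := hJ
    exact J2_six_odd hC e hn h2

end Cfsg.Agent.H905.JD
end
end
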