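import Cfsg.Agent.H871.Basic
set_option linter.all false

-- part: H871/Decomp
section
/-!
Decompositions of `F^ι`: projections, elements of the decomposition stabiliser, full root groups
`Tt M a φ` (all multiples of a transvection lie in `M`).
-/

set_option autoImplicit false
set_option linter.unusedSectionVars false

namespace Cfsg.Agent.H871

open Matrix Cfsg.Agent.H873

variable {ι : Type} [Fintype ι] [DecidableEq ι] {F : Type*} [Field F]

/-- The full root group with centre `a` and axis `φ` lies in `M`. -/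
def Tt (M : Subgroup (GL ι F)) (a φ : ι → F) : Prop := ∀ s : F, HasTv M (s • a) φ

theorem Tt.dot {M : Subgroup (GL ι F)} {a φ : ι → F} (h : Tt M a φ) : φ ⬝ᵥ a = 0 := by
  have := (h 1).1
  rwa [one_smul] at this

theorem Tt.mono {M N : Subgroup (GL ι F)} (hMN : M ≤ N) {a φ : ι → F} (h : Tt M a φ) :
    Tt N a φ := fun s => (h s).mono hMN

theorem Tt.hasTv {M : Subgroup (GL ι F)} {a φ : ι → F} (h : Tt M a φ) : HasTv M a φ := by
  have := h 1
  rwa [one_smul] at this

theorem Tt.smul_left {M : Subgroup (GL ι F)} {a φ : ι → F} (h : Tt M a φ) (c : F) :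
    Tt M (c • a) φ := by
  intro s
  rw [smul_smul]
  exact h _

theorem Tt.smul_right {M : Subgroup (GL ι F)} {a φ : ι → F} (h : Tt M a φ) (c : F) :
    Tt M a (c • φ) := by
  intro s
  rw [← hasTv_smul_comm, smul_smul]
  exact h _

theorem Tt.add_left {M : Subgroup (GL ι F)} {a b φ : ι → F} (ha : Tt M a φ) (hb : Tt M b φ) :
    Tt M (a + b) φ := by
  intro s
  rw [smul_add]
  exact (ha s).add_left (hb s)

theorem Tt.add_right {M : Subgroup (GL ι F)} {a φ ψ : ι → F} (ha : Tt M a φ) (hb : Tt M a ψ) :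
    Tt M a (φ + ψ) := by
  intro s
  exact (ha s).add_right (hb s)

theorem Tt.neg_left {M : Subgroup (GL ι F)} {a φ : ι → F} (h : Tt M a φ) : Tt M (-a) φ := by
  have := h.smul_left (-1)
  rwa [neg_one_smul] at this

theorem Tt.neg_right {M : Subgroup (GL ι F)} {a φ : ι → F} (h : Tt M a φ) : Tt M a (-φ) := by
  have := h.smul_right (-1)
  rwa [neg_one_smul] at this

theorem Tt.sub_left {M : Subgroup (GL ι F)} {a b φ : ι → F} (ha : Tt M a φ) (hb : Tt M b φ) :
    Tt M (a - b) φ := by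
  rw [sub_eq_add_neg]; exact ha.add_left hb.neg_left

theorem Tt.sub_right {M : Subgroup (GL ι F)} {a φ ψ : ι → F} (ha : Tt M a φ) (hb : Tt M a ψ) :
    Tt M a (φ - ψ) := by
  rw [sub_eq_add_neg]; exact ha.add_right hb.neg_right

theorem Tt.sum_right {M : Subgroup (GL ι F)} {κ : Type} {a : ι → F} (s : Finset κ)
    (φ : κ → ι → F) (h : ∀ i ∈ s, Tt M a (φ i)) : Tt M a (∑ i ∈ s, φ i) := by
  classical
  induction s using Finset.induction_on with
  | empty =>
    rw [Finset.sum_empty]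
    intro c
    exact hasTv_zero_right _ _
  | insert i s hi ih =>
    rw [Finset.sum_insert hi]
    exact (h i (Finset.mem_insert_self _ _)).add_right
      (ih fun j hj => h j (Finset.mem_insert_of_mem hj))

theorem Tt.sum_left {M : Subgroup (GL ι F)} {κ : Type} {φ : ι → F} (s : Finset κ)
    (a : κ → ι → F) (h : ∀ i ∈ s, Tt M (a i) φ) : Tt M (∑ i ∈ s, a i) φ := by
  classical
  induction s using Finset.induction_on with
  | empty =>
    rw [Finset.sum_empty]
    intro c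
    rw [smul_zero]
    exact hasTv_zero_left _ _
  | insert i s hi ih =>
    rw [Finset.sum_insert hi]
    exact (h i (Finset.mem_insert_self _ _)).add_left
      (ih fun j hj => h j (Finset.mem_insert_of_mem hj))

theorem Tt.conj {M : Subgroup (GL ι F)} {a φ : ι → F} (ha : Tt M a φ) {g : GL ι F}
    (hg : g ∈ M) :
    Tt M ((g : Matrix ι ι F) *ᵥ a) (φ ᵥ* ((g⁻¹ : GL ι F) : Matrix ι ι F)) := by
  intro s
  have := (ha s).conj hg
  rwa [mulVec_smul] at this

theorem Tt.conj_tv {M : Subgroup (GL ι F)} {a φ b ψ : ι → F} (ha : Tt M a φ)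
    (hb : HasTv M b ψ) :
    Tt M (a + (ψ ⬝ᵥ a) • b) (φ - (φ ⬝ᵥ b) • ψ) := by
  intro s
  have := (ha s).conj_tv hb
  rwa [dotProduct_smul, smul_eq_mul, mul_smul, ← smul_add] at this

theorem Tt.comm {M : Subgroup (GL ι F)} {v ψ a α : ι → F} (hv : Tt M v ψ)
    (ha : Tt M a α) (h : ψ ⬝ᵥ a = 0) (h2 : α ⬝ᵥ v ≠ 0) : Tt M a ψ := by
  intro s
  have h1 := (hv (s * (α ⬝ᵥ v)⁻¹)).comm ha.hasTv h
  rwa [dotProduct_smul, smul_eq_mul, mul_assoc, inv_mul_cancel₀ h2, mul_one] at h1

theorem Tt.comm' {M : Subgroup (GL ι F)} {v ψ a α : ι → F} (hv : Tt M v ψ)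
    (ha : Tt M a α) (h : α ⬝ᵥ v = 0) (h2 : ψ ⬝ᵥ a ≠ 0) : Tt M v α := by
  intro s
  have h1 := (hv (s * (ψ ⬝ᵥ a)⁻¹)).comm' ha.hasTv (by rw [dotProduct_smul, h, smul_zero])
  rw [← hasTv_smul_comm, smul_smul] at h1
  have : ψ ⬝ᵥ a * (s * (ψ ⬝ᵥ a)⁻¹) = s := by field_simp
  rwa [this] at h1

/-- A system of projections adapted to the decomposition `D`. -/
structure Proj {t : ℕ} (D : Fin t → Submodule F (ι → F)) (E : Fin t → Matrix ι ι F) : Prop where
  mem : ∀ k v, E k *ᵥ v ∈ D k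
  self : ∀ k v, v ∈ D k → E k *ᵥ v = v
  other : ∀ j k v, j ≠ k → v ∈ D j → E k *ᵥ v = 0
  sum : ∀ v, ∑ k, E k *ᵥ v = v

theorem exists_proj {t m : ℕ} {D : Fin t → Submodule F (ι → F)}
    (hD : Cfsg.Geo.IsMDecomposition m D) : ∃ E : Fin t → Matrix ι ι F, Proj D E := by
  have hC : ∀ k, IsCompl (D k) (⨆ (j : Fin t) (_ : j ≠ k), D j) := by
    intro k
    refine ⟨hD.indep k, ?_⟩
    rw [codisjoint_iff_le_sup, ← hD.iSup_eq_top]
    refine iSup_le fun j => ?_
    by_cases hj : j = k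
    · subst hj
      exact le_sup_left
    · exact le_sup_of_le_right (le_iSup₂_of_le j hj le_rfl)
  let π : Fin t → ((ι → F) →ₗ[F] (ι → F)) := fun k => (D k).projection _ (hC k)
  have hself : ∀ k v, v ∈ D k → π k v = v := fun k v hv =>
    Submodule.projection_apply_of_mem_left (hC k) hv
  have hother : ∀ j k v, j ≠ k → v ∈ D j → π k v = 0 := by
    intro j k v hjk hv
    rw [Submodule.projection_apply_eq_zero_iff]
    exact (le_iSup₂_of_le (f := fun (j : Fin t) (_ : j ≠ k) => D j) j hjk le_rfl) hv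
  have hsum : ∑ k, π k = LinearMap.id := by
    apply LinearMap.ext
    intro v
    have hv : v ∈ iSup D := by rw [hD.iSup_eq_top]; trivial
    induction hv using Submodule.iSup_induction' with
    | mem j x hx =>
      rw [LinearMap.sum_apply, Finset.sum_eq_single j]
      · rw [hself j x hx, LinearMap.id_apply]
      · intro k _ hk
        exact hother j k x (Ne.symm hk) hx
      · intro h
        exact absurd (Finset.mem_univ _) h
    | zero => rw [map_zero, map_zero]
    | add x y _ _ hx hy => rw [map_add, map_add, hx, hy]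
  refine ⟨fun k => LinearMap.toMatrix' (π k), ⟨?_, ?_, ?_, ?_⟩⟩
  · intro k v
    rw [← Matrix.toLin'_apply, Matrix.toLin'_toMatrix']
    exact Submodule.projection_apply_mem (hC k) v
  · intro k v hv
    rw [← Matrix.toLin'_apply, Matrix.toLin'_toMatrix']
    exact hself k v hv
  · intro j k v hjk hv
    rw [← Matrix.toLin'_apply, Matrix.toLin'_toMatrix']
    exact hother j k v hjk hv
  · intro v
    have := congrArg (fun l => l v) hsum
    simp only [LinearMap.sum_apply, LinearMap.id_apply] at this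
    rw [← this]
    refine Finset.sum_congr rfl fun k _ => ?_
    rw [← Matrix.toLin'_apply, Matrix.toLin'_toMatrix', this]

section

variable {t m : ℕ} {D : Fin t → Submodule F (ι → F)} {E : Fin t → Matrix ι ι F}

theorem Proj.mul_self (hE : Proj D E) (k : Fin t) : E k * E k = E k := by
  apply Matrix.mulVec_injective
  funext v
  rw [← mulVec_mulVec]
  exact hE.self k _ (hE.mem k v)

theorem Proj.mul_other (hE : Proj D E) {j k : Fin t} (h : j ≠ k) : E j * E k = 0 := by
  apply Matrix.mulVec_injective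
  funext v
  rw [← mulVec_mulVec, zero_mulVec]
  exact hE.other k j _ h.symm (hE.mem k v)

theorem Proj.mem_iff (hE : Proj D E) (k : Fin t) (v : ι → F) : v ∈ D k ↔ E k *ᵥ v = v := by
  refine ⟨hE.self k v, fun h => ?_⟩
  rw [← h]
  exact hE.mem k v

/-- functionals supported on `D k` -/
def Dd (E : Fin t → Matrix ι ι F) (k : Fin t) (φ : ι → F) : Prop := φ ᵥ* E k = φ

theorem Dd.apply (k : Fin t) {φ : ι → F} (h : Dd E k φ) (v : ι → F) :
    φ ⬝ᵥ v = φ ⬝ᵥ (E k *ᵥ v) := by
  conv_lhs => rw [← (show φ ᵥ* E k = φ from h)]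
  rw [dotProduct_mulVec]

theorem Proj.dd_other (hE : Proj D E) {j k : Fin t} (hjk : j ≠ k) {φ v : ι → F} (h : Dd E k φ)
    (hv : v ∈ D j) : φ ⬝ᵥ v = 0 := by
  rw [h.apply, hE.other j k v hjk hv, dotProduct_zero]

theorem Proj.dd_mk (hE : Proj D E) (k : Fin t) (φ : ι → F) : Dd E k (φ ᵥ* E k) := by
  unfold Dd
  rw [vecMul_vecMul, hE.mul_self]

theorem Proj.dd_of (hE : Proj D E) (k : Fin t) (φ : ι → F)
    (h : ∀ j, j ≠ k → ∀ v ∈ D j, φ ⬝ᵥ v = 0) : Dd E k φ := by
  apply dotProduct_eq_iff.1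
  intro v
  rw [← dotProduct_mulVec]
  conv_rhs => rw [← hE.sum v]
  rw [dotProduct_sum, Finset.sum_eq_single k]
  · intro j _ hj
    exact h j hj _ (hE.mem j v)
  · intro h
    exact absurd (Finset.mem_univ _) h

/-- the sum of all the members different from `D k` -/
theorem Proj.exists_dd (hE : Proj D E) (k : Fin t) {y z : ι → F} (hz : z ∈ D k)
    (hyz : z ∉ Submodule.span F {y}) (hy : y ∈ D k) :
    ∃ φ, Dd E k φ ∧ φ ⬝ᵥ y = 0 ∧ φ ⬝ᵥ z = 1 := by
  have h1 : z ∉ LinearMap.ker (Matrix.toLin' (E k)) ⊔ Submodule.span F {y} := by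
    intro h
    obtain ⟨w, hw, x, hx, hwx⟩ := Submodule.mem_sup.1 h
    obtain ⟨c, rfl⟩ := Submodule.mem_span_singleton.1 hx
    apply hyz
    rw [LinearMap.mem_ker, Matrix.toLin'_apply] at hw
    have h2 : E k *ᵥ z = z := hE.self k z hz
    rw [← hwx, mulVec_add, hw, zero_add, mulVec_smul, hE.self k y hy] at h2
    rw [← hwx, ← h2]
    exact Submodule.smul_mem _ _ (Submodule.mem_span_singleton_self _)
  obtain ⟨φ, hφ, hφz⟩ := exists_dot _ h1
  refine ⟨φ, hE.dd_of k φ fun j hj v hv => ?_, ?_, hφz⟩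
  · apply hφ
    apply Submodule.mem_sup_left
    rw [LinearMap.mem_ker, Matrix.toLin'_apply]
    exact hE.other j k v hj hv
  · exact hφ y (Submodule.mem_sup_right (Submodule.mem_span_singleton_self _))

theorem Proj.exists_dd_one (hE : Proj D E) (k : Fin t) {z : ι → F} (hz : z ∈ D k) (h0 : z ≠ 0) :
    ∃ φ, Dd E k φ ∧ φ ⬝ᵥ z = 1 := by
  obtain ⟨φ, h1, -, h2⟩ := hE.exists_dd k (y := 0) hz
    (by rw [Submodule.span_zero_singleton]; exact h0) (D k).zero_mem
  exact ⟨φ, h1, h2⟩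

/-- membership in the decomposition stabiliser -/
theorem mem_decomp_of (hD : Cfsg.Geo.IsMDecomposition m D) (g : GL ι F) (σ : Equiv.Perm (Fin t))
    (h : ∀ i, ∀ v ∈ D i, (g : Matrix ι ι F) *ᵥ v ∈ D (σ i)) :
    g ∈ Cfsg.Geo.decompositionStabilizer D := by
  refine ⟨σ, fun i => ?_⟩
  apply Submodule.eq_of_le_of_finrank_eq
  · rintro _ ⟨v, hv, rfl⟩
    rw [Matrix.toLin'_apply]
    exact h i v hv
  · rw [hD.finrank_eq]
    have hinj : Function.Injective (Matrix.toLin' (g : Matrix ι ι F)) := by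
      intro x y hxy
      rw [Matrix.toLin'_apply, Matrix.toLin'_apply] at hxy
      rw [← inv_mulVec_mulVec g x, hxy, inv_mulVec_mulVec]
    rw [← (Submodule.equivMapOfInjective _ hinj (D i)).finrank_eq, hD.finrank_eq]

theorem tt_decomp (hD : Cfsg.Geo.IsMDecomposition m D) (hE : Proj D E) {j : Fin t}
    {a φ : ι → F} (ha : a ∈ D j) (hφ : Dd E j φ) (h : φ ⬝ᵥ a = 0) :
    Tt (Cfsg.Geo.decompositionStabilizer D ⊓ Cfsg.Geo.specialLinear ι F) a φ := by
  intro s
  have h0 : φ ⬝ᵥ (s • a) = 0 := by rw [dotProduct_smul, h, smul_zero]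
  refine (hasTv_iff _ _ _).2 ⟨h0, ?_, tv_mem_specialLinear _ _ h0⟩
  refine mem_decomp_of hD _ 1 fun i v hv => ?_
  rw [tv_mulVec, Equiv.Perm.one_apply]
  by_cases hij : i = j
  · subst hij
    exact (D i).add_mem hv ((D i).smul_mem _ ((D i).smul_mem _ ha))
  · rw [hE.dd_other hij hφ hv, zero_smul, add_zero]
    exact hv

end

end Cfsg.Agent.H871
end

-- part: H871/DecompTwo
section
/-!
Overgroups in `SL` of the stabiliser of a decomposition into subspaces of dimension at least two.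
-/

set_option autoImplicit false
set_option linter.unusedSectionVars false

namespace Cfsg.Agent.H871

open Matrix Cfsg.Agent.H873

variable {ι : Type} [Fintype ι] [DecidableEq ι] {F : Type*} [Field F]

/-- The element `1 + x` with `x ^ 2 = 0`. -/
def qe (x : Matrix ι ι F) (h : x * x = 0) : GL ι F where
  val := 1 + x
  inv := 1 - x
  val_inv := by rw [add_mul, mul_sub, mul_sub, one_mul, one_mul, mul_one, h]; simp
  inv_val := by rw [sub_mul, mul_add, mul_add, one_mul, one_mul, mul_one, h]; simp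

theorem coe_qe (x : Matrix ι ι F) (h : x * x = 0) : (qe x h : Matrix ι ι F) = 1 + x := rfl

theorem qe_mem_specialLinear (x : Matrix ι ι F) (h : x * x = 0) (y : Matrix ι ι F)
    (h1 : y * x = x) (h2 : x * y = 0) : qe x h ∈ Cfsg.Geo.specialLinear ι F := by
  rw [mem_specialLinear_iff, coe_qe]
  conv_lhs => rw [← h1]
  rw [det_one_add_mul_comm, h2, add_zero, det_one]

section

variable {t m : ℕ} {D : Fin t → Submodule F (ι → F)} {E : Fin t → Matrix ι ι F}

theorem exists_swap (hD : Cfsg.Geo.IsMDecomposition m D) (hE : Proj D E) {j k : Fin t}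
    (hjk : j ≠ k) :
    ∃ w : GL ι F, w ∈ Cfsg.Geo.specialLinear ι F ∧
      (∀ i, ∀ v ∈ D i, (w : Matrix ι ι F) *ᵥ v ∈ D (Equiv.swap j k i)) := by
  have hfr : Module.finrank F (D j) = Module.finrank F (D k) := by
    rw [hD.finrank_eq, hD.finrank_eq]
  let e : D j ≃ₗ[F] D k := LinearEquiv.ofFinrankEq _ _ hfr
  let Lj : (ι → F) →ₗ[F] D j := (Matrix.toLin' (E j)).codRestrict (D j)
    (fun v => by rw [Matrix.toLin'_apply]; exact hE.mem j v)
  let Lk : (ι → F) →ₗ[F] D k := (Matrix.toLin' (E k)).codRestrict (D k)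
    (fun v => by rw [Matrix.toLin'_apply]; exact hE.mem k v)
  let A : (ι → F) →ₗ[F] (ι → F) := (D k).subtype ∘ₗ e.toLinearMap ∘ₗ Lj
  let B : (ι → F) →ₗ[F] (ι → F) := (D j).subtype ∘ₗ e.symm.toLinearMap ∘ₗ Lk
  have hLj : ∀ i v, i ≠ j → v ∈ D i → Lj v = 0 := by
    intro i v hi hv
    apply Subtype.ext
    change Matrix.toLin' (E j) v = 0
    rw [Matrix.toLin'_apply]
    exact hE.other i j v hi hv
  have hLk : ∀ i v, i ≠ k → v ∈ D i → Lk v = 0 := by
    intro i v hi hv
    apply Subtype.ext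
    change Matrix.toLin' (E k) v = 0
    rw [Matrix.toLin'_apply]
    exact hE.other i k v hi hv
  have hA0 : ∀ i v, i ≠ j → v ∈ D i → A v = 0 := by
    intro i v hi hv
    simp only [A, LinearMap.comp_apply, hLj i v hi hv, map_zero]
  have hB0 : ∀ i v, i ≠ k → v ∈ D i → B v = 0 := by
    intro i v hi hv
    simp only [B, LinearMap.comp_apply, hLk i v hi hv, map_zero]
  have hAk : ∀ v, A v ∈ D k := fun v => (e (Lj v)).2
  have hBj : ∀ v, B v ∈ D j := fun v => (e.symm (Lk v)).2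
  have hLj1 : ∀ v (hv : v ∈ D j), Lj v = ⟨v, hv⟩ := by
    intro v hv
    apply Subtype.ext
    change Matrix.toLin' (E j) v = v
    rw [Matrix.toLin'_apply]
    exact hE.self j v hv
  have hLk1 : ∀ v (hv : v ∈ D k), Lk v = ⟨v, hv⟩ := by
    intro v hv
    apply Subtype.ext
    change Matrix.toLin' (E k) v = v
    rw [Matrix.toLin'_apply]
    exact hE.self k v hv
  have hBA : ∀ v ∈ D j, B (A v) = v := by
    intro v hv
    simp only [A, B, LinearMap.comp_apply, LinearEquiv.coe_coe, Submodule.subtype_apply]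
    rw [hLk1 _ (e (Lj v)).2, Subtype.coe_eta, LinearEquiv.symm_apply_apply, hLj1 v hv]
  have hAB : ∀ v ∈ D k, A (B v) = v := by
    intro v hv
    simp only [A, B, LinearMap.comp_apply, LinearEquiv.coe_coe, Submodule.subtype_apply]
    rw [hLj1 _ (e.symm (Lk v)).2, Subtype.coe_eta, LinearEquiv.apply_symm_apply, hLk1 v hv]
  set a := LinearMap.toMatrix' A with ha
  set b := LinearMap.toMatrix' B with hb
  have hav : ∀ v, a *ᵥ v = A v := fun v => by
    rw [← Matrix.toLin'_apply, ha, Matrix.toLin'_toMatrix']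
  have hbv : ∀ v, b *ᵥ v = B v := fun v => by
    rw [← Matrix.toLin'_apply, hb, Matrix.toLin'_toMatrix']
  have haa : a * a = 0 := by
    apply Matrix.mulVec_injective
    funext v
    rw [← mulVec_mulVec, zero_mulVec, hav, hav]
    exact hA0 k _ hjk.symm (hAk v)
  have hbb : (-b) * (-b) = 0 := by
    rw [neg_mul_neg]
    apply Matrix.mulVec_injective
    funext v
    rw [← mulVec_mulVec, zero_mulVec, hbv, hbv]
    exact hB0 j _ hjk (hBj v)
  have hs1 : qe a haa ∈ Cfsg.Geo.specialLinear ι F := by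
    refine qe_mem_specialLinear a haa (E k) ?_ ?_
    · apply Matrix.mulVec_injective
      funext v
      rw [← mulVec_mulVec, hav]
      exact hE.self k _ (hAk v)
    · apply Matrix.mulVec_injective
      funext v
      rw [← mulVec_mulVec, zero_mulVec, hav]
      exact hA0 k _ hjk.symm (hE.mem k v)
  have hs2 : qe (-b) hbb ∈ Cfsg.Geo.specialLinear ι F := by
    refine qe_mem_specialLinear (-b) hbb (E j) ?_ ?_
    · apply Matrix.mulVec_injective
      funext v
      rw [← mulVec_mulVec, neg_mulVec, hbv, mulVec_neg]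
      congr 1
      exact hE.self j _ (hBj v)
    · apply Matrix.mulVec_injective
      funext v
      rw [← mulVec_mulVec, zero_mulVec, neg_mulVec, hbv]
      rw [hB0 j _ hjk (hE.mem j v), neg_zero]
  refine ⟨qe a haa * qe (-b) hbb * qe a haa, Subgroup.mul_mem _ (Subgroup.mul_mem _ hs1 hs2) hs1, ?_⟩
  have hval : ∀ v, ((qe a haa * qe (-b) hbb * qe a haa : GL ι F) : Matrix ι ι F) *ᵥ v =
      (v + A v - B (v + A v)) + A (v + A v - B (v + A v)) := by
    intro v
    rw [Units.val_mul, Units.val_mul, coe_qe, coe_qe, ← mulVec_mulVec, ← mulVec_mulVec]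
    simp only [add_mulVec, one_mulVec, hav, neg_mulVec, hbv]
    rw [sub_eq_add_neg]
  intro i v hv
  rw [hval]
  by_cases hij : i = j
  · subst hij
    rw [Equiv.swap_apply_left]
    have h1 : B v = 0 := hB0 i v hjk hv
    have h2 : B (A v) = v := hBA v hv
    have h3 : A (A v) = 0 := hA0 k _ hjk.symm (hAk v)
    rw [map_add, h1, zero_add, h2, add_sub_cancel_left, h3, add_zero]
    exact hAk v
  · by_cases hik : i = k
    · subst hik
      rw [Equiv.swap_apply_right]
      have h1 : A v = 0 := hA0 i v hjk.symm hv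
      have h2 : A (B v) = v := hAB v hv
      rw [h1, add_zero, map_sub, h1, h2, zero_sub]
      have : v - B v + -v = - B v := by abel
      rw [this]
      exact (D j).neg_mem (hBj v)
    · rw [Equiv.swap_apply_of_ne_of_ne hij hik, hA0 i v hij hv, add_zero, hB0 i v hik hv, sub_zero,
        hA0 i v hij hv, add_zero]
      exact hv

/-- The configuration `S(j, k)`: all the transvections with centre in `D j` and axis containing
all members but `D k`. -/
def SS (M : Subgroup (GL ι F)) (D : Fin t → Submodule F (ι → F)) (E : Fin t → Matrix ι ι F)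
    (j k : Fin t) : Prop := ∀ a ∈ D j, ∀ φ, Dd E k φ → Tt M a φ

theorem SS.conj {M : Subgroup (GL ι F)} (hE : Proj D E) {j k : Fin t} (h : SS M D E j k)
    {w : GL ι F} (hw : w ∈ M) (σ : Equiv.Perm (Fin t))
    (hσ : ∀ i, ∀ v ∈ D i, (w : Matrix ι ι F) *ᵥ v ∈ D (σ i))
    (hσ' : ∀ i, ∀ v ∈ D (σ i), ((w⁻¹ : GL ι F) : Matrix ι ι F) *ᵥ v ∈ D i) :
    SS M D E (σ j) (σ k) := by
  intro a ha φ hφ
  have h1 : Dd E k (φ ᵥ* (w : Matrix ι ι F)) := by
    apply hE.dd_of
    intro i hi v hv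
    rw [← dotProduct_mulVec]
    exact hE.dd_other (fun h => hi (σ.injective h)) hφ (hσ i v hv)
  have h2 := (h _ (hσ' j a ha) _ h1).conj hw
  rw [mulVec_inv_mulVec, vecMul_vecMul, ← Units.val_mul, mul_inv_cancel, Units.val_one,
    vecMul_one] at h2
  exact h2

theorem inv_of_mem_decomp (hD : Cfsg.Geo.IsMDecomposition m D) {w : GL ι F}
    {σ : Equiv.Perm (Fin t)} (hσ : ∀ i, ∀ v ∈ D i, (w : Matrix ι ι F) *ᵥ v ∈ D (σ i)) :
    ∀ i, ∀ v ∈ D (σ i), ((w⁻¹ : GL ι F) : Matrix ι ι F) *ᵥ v ∈ D i := by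
  intro i v hv
  have hmap : (D i).map (Matrix.toLin' (w : Matrix ι ι F)) = D (σ i) := by
    apply Submodule.eq_of_le_of_finrank_eq
    · rintro _ ⟨v, hv, rfl⟩
      rw [Matrix.toLin'_apply]
      exact hσ i v hv
    · rw [hD.finrank_eq]
      have hinj : Function.Injective (Matrix.toLin' (w : Matrix ι ι F)) := by
        intro x y hxy
        rw [Matrix.toLin'_apply, Matrix.toLin'_apply] at hxy
        rw [← inv_mulVec_mulVec w x, hxy, inv_mulVec_mulVec]
      rw [← (Submodule.equivMapOfInjective _ hinj (D i)).finrank_eq, hD.finrank_eq]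
  rw [← hmap] at hv
  obtain ⟨u, hu, rfl⟩ := hv
  rw [Matrix.toLin'_apply, inv_mulVec_mulVec]
  exact hu

/-- All pairs from one pair. -/
theorem SS.all (hD : Cfsg.Geo.IsMDecomposition m D) (hE : Proj D E) {M : Subgroup (GL ι F)}
    (hM : Cfsg.Geo.decompositionStabilizer D ⊓ Cfsg.Geo.specialLinear ι F ≤ M) {j k : Fin t}
    (hjk : j ≠ k) (h : SS M D E j k) {j' k' : Fin t} (hjk' : j' ≠ k') : SS M D E j' k' := by
  have step : ∀ {j k : Fin t}, SS M D E j k → ∀ {x y : Fin t}, x ≠ y →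
      SS M D E (Equiv.swap x y j) (Equiv.swap x y k) := by
    intro j k h x y hxy
    obtain ⟨w, hw1, hw2⟩ := exists_swap hD hE hxy
    exact h.conj hE (hM ⟨mem_decomp_of hD w _ hw2, hw1⟩) _ hw2 (inv_of_mem_decomp hD hw2)
  have h1 : ∃ k'', j' ≠ k'' ∧ SS M D E j' k'' := by
    by_cases hj : j = j'
    · subst hj
      exact ⟨k, hjk, h⟩
    · refine ⟨Equiv.swap j j' k, ?_, ?_⟩
      · intro h0
        have : Equiv.swap j j' j = Equiv.swap j j' k := by rw [Equiv.swap_apply_left]; exact h0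
        exact hjk ((Equiv.swap j j').injective this)
      · have := step h hj
        rwa [Equiv.swap_apply_left] at this
  obtain ⟨k'', hk'', h2⟩ := h1
  by_cases hk : k'' = k'
  · subst hk
    exact h2
  · have := step h2 hk
    rwa [Equiv.swap_apply_left, Equiv.swap_apply_of_ne_of_ne hk'' hjk'] at this

/-- If all the configurations hold then the group contains `SL`. -/
theorem specialLinear_le_of_SS [Nontrivial ι] (hD : Cfsg.Geo.IsMDecomposition m D)
    (hE : Proj D E) {M : Subgroup (GL ι F)}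
    (hM : Cfsg.Geo.decompositionStabilizer D ⊓ Cfsg.Geo.specialLinear ι F ≤ M)
    (h : ∀ j k, j ≠ k → SS M D E j k) : Cfsg.Geo.specialLinear ι F ≤ M := by
  have hfull : ∀ j, ∀ a ∈ D j, Full M a := by
    intro j a ha ψ hψ
    have h1 : ψ = ∑ k, ψ ᵥ* E k := by
      apply dotProduct_eq_iff.1
      intro v
      rw [sum_dotProduct]
      conv_lhs => rw [← hE.sum v, dotProduct_sum]
      refine Finset.sum_congr rfl fun k _ => ?_
      rw [dotProduct_mulVec]
    rw [h1]
    refine (Tt.sum_right _ _ fun k _ => ?_).hasTv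
    by_cases hk : j = k
    · subst hk
      refine (tt_decomp hD hE ha (hE.dd_mk j ψ) ?_).mono hM
      rw [← dotProduct_mulVec, hE.self j a ha, hψ]
    · exact h j k hk a ha _ (hE.dd_mk k ψ)
  apply specialLinear_le_of_full
  intro b
  by_cases hb : b = 0
  · subst hb
    intro ψ _
    exact hasTv_zero_left _ _
  obtain ⟨i, hi⟩ : ∃ i, E i *ᵥ b ≠ 0 := by
    by_contra hc
    push Not at hc
    apply hb
    rw [← hE.sum b]
    exact Finset.sum_eq_zero fun i _ => hc i
  obtain ⟨φ, hφ, hφ1⟩ := hE.exists_dd_one i (hE.mem i b) hi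
  have hc : HasTv M (b - E i *ᵥ b) φ := by
    have h1 : b - E i *ᵥ b = ∑ k ∈ Finset.univ.erase i, E k *ᵥ b := by
      have h2 := Finset.add_sum_erase Finset.univ (fun k => E k *ᵥ b) (Finset.mem_univ i)
      rw [hE.sum] at h2
      rw [sub_eq_iff_eq_add, add_comm]
      exact h2.symm
    rw [h1]
    refine (Tt.sum_left _ _ fun k hk => ?_).hasTv
    exact h k i (Finset.ne_of_mem_erase hk) _ (hE.mem k b) _ hφ
  obtain ⟨h0, hmem⟩ := (hasTv_iff _ _ _).1 hc
  have h2 := (hfull i _ (hE.mem i b)).conj hmem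
  rw [tv_mulVec, hφ1, one_smul, add_sub_cancel] at h2
  exact h2

/-- One off-diagonal root group gives a whole configuration. -/
theorem SS_of_tt (hD : Cfsg.Geo.IsMDecomposition m D) (hE : Proj D E) {M : Subgroup (GL ι F)}
    (hM : Cfsg.Geo.decompositionStabilizer D ⊓ Cfsg.Geo.specialLinear ι F ≤ M) {j k : Fin t}
    (hjk : j ≠ k) {a φ : ι → F} (ha : a ∈ D j) (ha0 : a ≠ 0) (hφ : Dd E k φ) (hφ0 : φ ≠ 0)
    (h : Tt M a φ) : SS M D E j k := by
  have step1 : ∀ a' ∈ D j, Tt M a' φ := by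
    intro a' ha'
    by_cases hd : a ∈ Submodule.span F {a'}
    · obtain ⟨c, rfl⟩ := Submodule.mem_span_singleton.1 hd
      have hc : c ≠ 0 := by
        rintro rfl
        exact ha0 (zero_smul _ _)
      have := h.smul_left c⁻¹
      rwa [smul_smul, inv_mul_cancel₀ hc, one_smul] at this
    · obtain ⟨χ, hχ, hχ0, hχ1⟩ := hE.exists_dd j ha hd ha'
      have h1 := h.conj_tv ((tt_decomp hD hE ha' hχ hχ0).mono hM).hasTv
      rw [hχ1, one_smul, hE.dd_other hjk hφ ha', zero_smul, sub_zero] at h1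
      have h2 := h1.sub_left h
      rwa [add_sub_cancel_left] at h2
  intro a' ha' φ' hφ'
  by_cases ha'0 : a' = 0
  · subst ha'0
    intro s
    rw [smul_zero]
    exact hasTv_zero_left _ _
  by_cases hd : ∃ c : F, φ = c • φ'
  · obtain ⟨c, rfl⟩ := hd
    have hc : c ≠ 0 := by
      rintro rfl
      exact hφ0 (zero_smul _ _)
    have := (step1 a' ha').smul_right c⁻¹
    rwa [smul_smul, inv_mul_cancel₀ hc, one_smul] at this
  · push Not at hd
    -- a vector killed by `φ'` but not by `φ`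
    obtain ⟨y, hy, hy1⟩ : ∃ y, φ' ⬝ᵥ y = 0 ∧ φ ⬝ᵥ y ≠ 0 := by
      by_contra hcon
      push Not at hcon
      by_cases hφ'0 : φ' = 0
      · refine hd 0 ?_
        rw [zero_smul]
        apply dotProduct_eq_iff.1
        intro u
        rw [zero_dotProduct]
        exact hcon u (by rw [hφ'0, zero_dotProduct])
      · obtain ⟨w, hw⟩ : ∃ w, φ' ⬝ᵥ w ≠ 0 := by
          by_contra hc
          push Not at hc
          exact hφ'0 (dotProduct_eq_iff.1 fun u => by rw [hc u, zero_dotProduct])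
        refine hd ((φ ⬝ᵥ w) / (φ' ⬝ᵥ w)) (dotProduct_eq_iff.1 fun u => ?_)
        have h1 := hcon (u - ((φ' ⬝ᵥ u) / (φ' ⬝ᵥ w)) • w) (by
          rw [dotProduct_sub, dotProduct_smul, smul_eq_mul]
          field_simp
          ring)
        rw [dotProduct_sub, dotProduct_smul, smul_eq_mul, sub_eq_zero] at h1
        rw [h1, smul_dotProduct, smul_eq_mul]
        field_simp
    have hy' : φ' ⬝ᵥ (E k *ᵥ y) = 0 := by rw [← hφ'.apply, hy]
    have hy1' : φ ⬝ᵥ (E k *ᵥ y) ≠ 0 := by rw [← hφ.apply]; exact hy1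
    exact (step1 a' ha').comm' ((tt_decomp hD hE (hE.mem k y) hφ' hy').mono hM)
      (hE.dd_other hjk hφ' ha') hy1'

/-- Claim 2: a root group with centre in `D j` whose axis does not contain `D k`, `k ≠ j`, and
`D k` has dimension at least two. -/
theorem top_of_left [Nontrivial ι] (hD : Cfsg.Geo.IsMDecomposition m D) (hm : 2 ≤ m)
    (hE : Proj D E)
    {M : Subgroup (GL ι F)}
    (hM : Cfsg.Geo.decompositionStabilizer D ⊓ Cfsg.Geo.specialLinear ι F ≤ M) {j k : Fin t}
    (hjk : j ≠ k) {a ψ : ι → F} (ha : a ∈ D j) (ha0 : a ≠ 0) (h : Tt M a ψ)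
    (hψ : ψ ᵥ* E k ≠ 0) : Cfsg.Geo.specialLinear ι F ≤ M := by
  obtain ⟨y, hy, hψy⟩ : ∃ y ∈ D k, ψ ⬝ᵥ y ≠ 0 := by
    by_contra hc
    push Not at hc
    apply hψ
    apply dotProduct_eq_iff.1
    intro v
    rw [← dotProduct_mulVec, zero_dotProduct]
    exact hc _ (hE.mem k v)
  have hz : ∃ z ∈ D k, z ∉ Submodule.span F {y} := by
    by_contra hc
    push Not at hc
    have h1 : D k ≤ Submodule.span F {y} := hc
    have h2 := Submodule.finrank_mono h1
    rw [hD.finrank_eq] at h2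
    have h3 := finrank_span_singleton (K := F) (v := y) (by
      rintro rfl
      exact hψy (dotProduct_zero _))
    omega
  obtain ⟨z, hz, hzy⟩ := hz
  obtain ⟨φ, hφ, hφy, hφz⟩ := hE.exists_dd k hz hzy hy
  have hφ0 : φ ≠ 0 := by
    rintro rfl
    rw [zero_dotProduct] at hφz
    exact zero_ne_one hφz
  have h1 : Tt M a φ := h.comm' ((tt_decomp hD hE hy hφ hφy).mono hM)
    (hE.dd_other hjk hφ ha) hψy
  have h2 := SS_of_tt hD hE hM hjk ha ha0 hφ hφ0 h1
  exact specialLinear_le_of_SS hD hE hM fun j' k' hjk' => h2.all hD hE hM hjk hjk'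

/-- Claim 1 and 2 together. -/
theorem top_of_ker [Nontrivial ι] (hD : Cfsg.Geo.IsMDecomposition m D) (hm : 2 ≤ m)
    (hE : Proj D E) {M : Subgroup (GL ι F)}
    (hM : Cfsg.Geo.decompositionStabilizer D ⊓ Cfsg.Geo.specialLinear ι F ≤ M) {j k : Fin t}
    (hjk : j ≠ k) {b ψ : ι → F} (h : Tt M b ψ) (hb : E j *ᵥ b ≠ 0)
    {a : ι → F} (ha : a ∈ D j) (ha1 : E j *ᵥ b ∉ Submodule.span F {a}) (hψa : ψ ⬝ᵥ a = 0)
    (ha0 : a ≠ 0)
    (hψ : ψ ᵥ* E k ≠ 0) : Cfsg.Geo.specialLinear ι F ≤ M := by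
  obtain ⟨φ, hφ, hφa, hφb⟩ := hE.exists_dd j (hE.mem j b) ha1 ha
  have h1 : Tt M a ψ := h.comm ((tt_decomp hD hE ha hφ hφa).mono hM) hψa
    (by rw [hφ.apply, hφb]; exact one_ne_zero)
  exact top_of_left hD hm hE hM hjk ha ha0 h1 hψ

/-- There are vectors in `D j` off a given line. -/
theorem exists_off_line (hD : Cfsg.Geo.IsMDecomposition m D) (hm : 2 ≤ m) (j : Fin t)
    (b : ι → F) : ∃ a ∈ D j, a ∉ Submodule.span F {b} := by
  by_contra hc
  push Not at hc
  have h1 : D j ≤ Submodule.span F {b} := hc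
  have h2 := Submodule.finrank_mono h1
  rw [hD.finrank_eq] at h2
  have h3 : Module.finrank F (Submodule.span F {b}) ≤ 1 := by
    by_cases hb : b = 0
    · subst hb
      rw [Submodule.span_zero_singleton, finrank_bot]
      exact Nat.zero_le _
    · rw [finrank_span_singleton hb]
  omega

/-- Case 1: `b_j ≠ 0`, `ψ_j = 0`, `ψ ≠ 0`. -/
theorem top_of_case_one [Nontrivial ι] (hD : Cfsg.Geo.IsMDecomposition m D) (hm : 2 ≤ m)
    (hE : Proj D E) {M : Subgroup (GL ι F)}
    (hM : Cfsg.Geo.decompositionStabilizer D ⊓ Cfsg.Geo.specialLinear ι F ≤ M) {j : Fin t}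
    {b ψ : ι → F} (h : Tt M b ψ) (hb : E j *ᵥ b ≠ 0)
    (hψj : ψ ᵥ* E j = 0) (hψ0 : ψ ≠ 0) : Cfsg.Geo.specialLinear ι F ≤ M := by
  obtain ⟨k, hk⟩ : ∃ k, ψ ᵥ* E k ≠ 0 := by
    by_contra hc
    push Not at hc
    apply hψ0
    apply dotProduct_eq_iff.1
    intro v
    rw [zero_dotProduct]
    conv_lhs => rw [← hE.sum v, dotProduct_sum]
    refine Finset.sum_eq_zero fun k _ => ?_
    rw [dotProduct_mulVec, hc k, zero_dotProduct]
  have hjk : j ≠ k := by
    rintro rfl
    exact hk hψj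
  obtain ⟨a, ha, hab⟩ := exists_off_line hD hm j (E j *ᵥ b)
  have ha0 : a ≠ 0 := by
    rintro rfl
    exact hab (Submodule.zero_mem _)
  refine top_of_ker hD hm hE hM hjk h hb ha ?_ ?_ ha0 hk
  · intro hc
    obtain ⟨c, hc⟩ := Submodule.mem_span_singleton.1 hc
    have hc0 : c ≠ 0 := by
      rintro rfl
      rw [zero_smul] at hc
      exact hb hc.symm
    apply hab
    rw [Submodule.mem_span_singleton]
    exact ⟨c⁻¹, by rw [← hc, smul_smul, inv_mul_cancel₀ hc0, one_smul]⟩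
  · rw [← hE.self j a ha, dotProduct_mulVec, hψj, zero_dotProduct]

/-- The homology `v ↦ v + (δ - 1) (γ v) c` with `γ c = 1`. -/
def hom (c γ : ι → F) (h : γ ⬝ᵥ c = 1) (δ : Fˣ) : GL ι F where
  val := 1 + ((δ : F) - 1) • vecMulVec c γ
  inv := 1 + (((δ⁻¹ : Fˣ) : F) - 1) • vecMulVec c γ
  val_inv := by
    rw [add_mul, mul_add, mul_add, one_mul, one_mul, mul_one, smul_mul_smul_comm,
      vecMulVec_mul_vecMulVec, h, one_smul]
    have : ((δ : F) - 1) * (((δ⁻¹ : Fˣ) : F) - 1) = -(((δ : F) - 1) + (((δ⁻¹ : Fˣ) : F) - 1)) := by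
      have h1 : (δ : F) * ((δ⁻¹ : Fˣ) : F) = 1 := by rw [← Units.val_mul, mul_inv_cancel, Units.val_one]
      linear_combination h1
    rw [this, neg_smul, add_smul]
    abel
  inv_val := by
    rw [add_mul, mul_add, mul_add, one_mul, one_mul, mul_one, smul_mul_smul_comm,
      vecMulVec_mul_vecMulVec, h, one_smul]
    have : (((δ⁻¹ : Fˣ) : F) - 1) * ((δ : F) - 1) = -(((δ : F) - 1) + (((δ⁻¹ : Fˣ) : F) - 1)) := by
      have h1 : (δ : F) * ((δ⁻¹ : Fˣ) : F) = 1 := by rw [← Units.val_mul, mul_inv_cancel, Units.val_one]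
      linear_combination h1
    rw [this, neg_smul, add_smul]
    abel

theorem hom_mulVec (c γ : ι → F) (h : γ ⬝ᵥ c = 1) (δ : Fˣ) (x : ι → F) :
    (hom c γ h δ : Matrix ι ι F) *ᵥ x = x + (((δ : F) - 1) * (γ ⬝ᵥ x)) • c := by
  change (1 + ((δ : F) - 1) • vecMulVec c γ) *ᵥ x = _
  rw [add_mulVec, one_mulVec, smul_mulVec, vecMulVec_mulVec, op_smul_eq_smul, smul_smul]

theorem vecMul_hom_inv (c γ : ι → F) (h : γ ⬝ᵥ c = 1) (δ : Fˣ) (φ : ι → F) :
    φ ᵥ* (((hom c γ h δ)⁻¹ : GL ι F) : Matrix ι ι F) =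
      φ + ((((δ⁻¹ : Fˣ) : F) - 1) * (φ ⬝ᵥ c)) • γ := by
  change φ ᵥ* (1 + (((δ⁻¹ : Fˣ) : F) - 1) • vecMulVec c γ) = _
  rw [vecMul_add, vecMul_one, vecMul_smul, vecMul_vecMulVec, smul_smul]

theorem det_hom (c γ : ι → F) (h : γ ⬝ᵥ c = 1) (δ : Fˣ) :
    Matrix.det (hom c γ h δ : Matrix ι ι F) = δ := by
  change Matrix.det (1 + ((δ : F) - 1) • vecMulVec c γ) = _
  rw [← smul_vecMulVec, vecMulVec_eq Unit, det_one_add_replicateCol_mul_replicateRow,
    dotProduct_smul, h]
  simp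

/-- The element used in the two-dimensional case. -/
theorem exists_diag (hD : Cfsg.Geo.IsMDecomposition m D) (hE : Proj D E) {j l : Fin t}
    (hjl : j ≠ l) {c γ c' γ' : ι → F} (hc : c ∈ D j) (hγ : Dd E j γ) (h1 : γ ⬝ᵥ c = 1)
    (hc' : c' ∈ D l) (hγ' : Dd E l γ') (h1' : γ' ⬝ᵥ c' = 1) (δ : Fˣ) :
    hom c γ h1 δ * hom c' γ' h1' δ⁻¹ ∈
      Cfsg.Geo.decompositionStabilizer D ⊓ Cfsg.Geo.specialLinear ι F := by
  have hstab : ∀ (j : Fin t) {c γ : ι → F}, c ∈ D j → Dd E j γ → ∀ (h1 : γ ⬝ᵥ c = 1) (δ : Fˣ),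
      hom c γ h1 δ ∈ Cfsg.Geo.decompositionStabilizer D := by
    intro j c γ hc hγ h1 δ
    refine mem_decomp_of hD _ 1 fun i v hv => ?_
    rw [hom_mulVec, Equiv.Perm.one_apply]
    by_cases hij : i = j
    · subst hij
      exact (D i).add_mem hv ((D i).smul_mem _ hc)
    · rw [hE.dd_other hij hγ hv, mul_zero, zero_smul, add_zero]
      exact hv
  refine ⟨Subgroup.mul_mem _ (hstab j hc hγ h1 δ) (hstab l hc' hγ' h1' δ⁻¹),
    (mem_specialLinear_iff _).2 ?_⟩
  rw [Units.val_mul, Matrix.det_mul, det_hom, det_hom, ← Units.val_mul,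
    mul_inv_cancel, Units.val_one]

end

end Cfsg.Agent.H871
end
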